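import Cfsg.Agent.H664.R1.Split
import Cfsg.Agent.OddOrderCharacters.PrimeTI
set_option linter.all false

/-!
# Rank one groups: existence of characters without linear constituents on `U` (helper664)

* `card_constituents_le` : the number of constituents is at most the norm;
* `norm_gg` : the norm of the Gelfand-Graev type character `θ^G` is `|T| + 1`;
* `exists_ps` : a character with `U`-fixed vectors is a constituent of some `ps f`;
* `exists_special` : if `G` has more than `|T| + 1 + #{w-invariant f}` classes, then some irreducible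
  character has restriction to `U` orthogonal to `1` and `θ`.
-/

set_option autoImplicit false

open Cfsg
open scoped ComplexConjugate

namespace Cfsg.Agent.H664.R1

open Cfsg.Agent.Characters.Core Cfsg.Agent.OddOrderCharacters.Clifford
  Cfsg.Agent.CharactersDeep.MackeyLinear

universe u

section general

variable {G : Type u} [Group G] [Fintype G]

theorem norm_eq_sum [Fintype (IrrCharacter G)] (m : IrrCharacter G → ℕ) :
    classInner (∑ ψ : IrrCharacter G, m ψ • (ψ : G → ℂ)) (∑ ψ : IrrCharacter G, m ψ • (ψ : G → ℂ)) =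
      ((∑ ψ : IrrCharacter G, m ψ ^ 2 : ℕ) : ℂ) := by
  have h := classInner_sum_smul_sum_smul (G := G) (fun ψ => (m ψ : ℂ)) (fun ψ => (m ψ : ℂ))
  simp only [Nat.cast_smul_eq_nsmul] at h
  rw [h]
  push_cast
  refine Finset.sum_congr rfl fun ψ _ => ?_
  rw [Complex.conj_natCast, sq]

/-- The number of irreducible constituents is at most the norm. -/
theorem card_constituents_le {Θ : G → ℂ} (hΘ : IsCharacter G Θ) {n : ℕ}
    (hn : classInner Θ Θ = n) :
    Nat.card {χ : IrrCharacter G // classInner Θ (χ : G → ℂ) ≠ 0} ≤ n := by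
  classical
  have := finite_irr (G := G)
  have := Fintype.ofFinite (IrrCharacter G)
  obtain ⟨m, rfl⟩ := exists_nat_comb hΘ
  rw [norm_eq_sum, Nat.cast_inj] at hn
  simp only [classInner_sum_nsmul_irr]
  rw [Nat.card_eq_fintype_card, Fintype.card_subtype, ← hn, Finset.card_eq_sum_ones,
    Finset.sum_filter]
  refine Finset.sum_le_sum fun χ _ => ?_
  split_ifs with h
  · have : m χ ≠ 0 := by exact_mod_cast h
    exact Nat.one_le_iff_ne_zero.2 (pow_ne_zero 2 this)
  · exact Nat.zero_le _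

/-- A character of norm two with two different constituents is their sum. -/
theorem eq_add_of_norm_two {Θ : G → ℂ} (hΘ : IsCharacter G Θ) (h2 : classInner Θ Θ = 2)
    {χ χ' : IrrCharacter G} (hne : χ ≠ χ') (h : classInner Θ (χ : G → ℂ) ≠ 0)
    (h' : classInner Θ (χ' : G → ℂ) ≠ 0) : Θ = (χ : G → ℂ) + (χ' : G → ℂ) := by
  classical
  have := finite_irr (G := G)
  have := Fintype.ofFinite (IrrCharacter G)
  obtain ⟨m, rfl⟩ := exists_nat_comb hΘ
  rw [norm_eq_sum] at h2
  have h3 : ∑ ψ : IrrCharacter G, m ψ ^ 2 = 2 := by exact_mod_cast h2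
  rw [classInner_sum_nsmul_irr] at h h'
  have hm : m χ ≠ 0 := by exact_mod_cast h
  have hm' : m χ' ≠ 0 := by exact_mod_cast h'
  have h4 : m χ ^ 2 + (m χ' ^ 2 + ∑ ψ ∈ (Finset.univ.erase χ).erase χ', m ψ ^ 2) =
      ∑ ψ : IrrCharacter G, m ψ ^ 2 := by
    rw [Finset.add_sum_erase (Finset.univ.erase χ) (fun ψ => m ψ ^ 2)
        (Finset.mem_erase.2 ⟨hne.symm, Finset.mem_univ χ'⟩),
      Finset.add_sum_erase Finset.univ (fun ψ => m ψ ^ 2) (Finset.mem_univ χ)]
  rw [h3] at h4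
  have h5 : 1 ≤ m χ ^ 2 := Nat.one_le_iff_ne_zero.2 (pow_ne_zero 2 hm)
  have h6 : 1 ≤ m χ' ^ 2 := Nat.one_le_iff_ne_zero.2 (pow_ne_zero 2 hm')
  have h7 : ∑ ψ ∈ (Finset.univ.erase χ).erase χ', m ψ ^ 2 = 0 := by omega
  have h8 : m χ ^ 2 = 1 := by omega
  have h9 : m χ' ^ 2 = 1 := by omega
  have h10 : m χ = 1 := by
    rcases Nat.pow_eq_one.1 h8 with h | h
    · exact h
    · omega
  have h11 : m χ' = 1 := by
    rcases Nat.pow_eq_one.1 h9 with h | h
    · exact h
    · omega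
  rw [← Finset.add_sum_erase Finset.univ _ (Finset.mem_univ χ),
    ← Finset.add_sum_erase (Finset.univ.erase χ) _
      (Finset.mem_erase.2 ⟨hne.symm, Finset.mem_univ χ'⟩), h10, h11, one_smul, one_smul]
  have h12 : ∑ ψ ∈ (Finset.univ.erase χ).erase χ', m ψ • (ψ : G → ℂ) = 0 := by
    refine Finset.sum_eq_zero fun ψ hψ => ?_
    have := (Finset.sum_eq_zero_iff.1 h7) ψ hψ
    rw [pow_eq_zero_iff (by norm_num)] at this
    rw [this, zero_smul]
  rw [h12, add_zero]

/-- A character of norm two has two different constituents. -/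
theorem exists_two {Θ : G → ℂ} (hΘ : IsCharacter G Θ) (h2 : classInner Θ Θ = 2) :
    ∃ χ χ' : IrrCharacter G, χ ≠ χ' ∧ Θ = (χ : G → ℂ) + (χ' : G → ℂ) := by
  classical
  have := finite_irr (G := G)
  have := Fintype.ofFinite (IrrCharacter G)
  obtain ⟨m, hm⟩ := exists_nat_comb hΘ
  have h3 := h2
  rw [hm, norm_eq_sum] at h3
  have h4 : ∑ ψ : IrrCharacter G, m ψ ^ 2 = 2 := by exact_mod_cast h3
  -- some constituent
  obtain ⟨χ, -, hχ⟩ : ∃ χ ∈ (Finset.univ : Finset (IrrCharacter G)), m χ ^ 2 ≠ 0 := by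
    apply Finset.exists_ne_zero_of_sum_ne_zero
    rw [h4]; norm_num
  have hχ1 : m χ ^ 2 = 1 := by
    have h5 : m χ ^ 2 ≤ ∑ ψ : IrrCharacter G, m ψ ^ 2 :=
      Finset.single_le_sum (f := fun ψ => m ψ ^ 2) (fun _ _ => Nat.zero_le _)
        (Finset.mem_univ χ)
    rw [h4] at h5
    have h6 : m χ < 2 := by nlinarith
    have h7 : m χ ≠ 0 := by
      intro h
      rw [h] at hχ
      exact hχ rfl
    have h8 : m χ = 1 := by omega
    rw [h8]; norm_num
  have h5 : ∑ ψ ∈ Finset.univ.erase χ, m ψ ^ 2 = 1 := by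
    have := Finset.add_sum_erase Finset.univ (fun ψ => m ψ ^ 2) (Finset.mem_univ χ)
    rw [h4] at this
    omega
  obtain ⟨χ', hχ', hχ2⟩ : ∃ χ' ∈ Finset.univ.erase χ, m χ' ^ 2 ≠ 0 := by
    apply Finset.exists_ne_zero_of_sum_ne_zero
    rw [h5]; norm_num
  have hne : χ ≠ χ' := fun h => (Finset.mem_erase.1 hχ').1 h.symm
  refine ⟨χ, χ', hne, eq_add_of_norm_two hΘ h2 hne ?_ ?_⟩
  · rw [hm, classInner_sum_nsmul_irr]
    exact_mod_cast fun h => hχ (by rw [h]; rfl)
  · rw [hm, classInner_sum_nsmul_irr]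
    exact_mod_cast fun h => hχ2 (by rw [h]; rfl)

end general

namespace Split

variable {G : Type u} [Group G] (D : Split G) [Fintype G]

/-- The Gelfand-Graev type character. -/
noncomputable def gg (θ : D.U →* ℂˣ) : G → ℂ := indFun D.U (fun u => (θ u : ℂ))

theorem gg_def (θ : D.U →* ℂˣ) : D.gg θ = indFun D.U (fun u => (θ u : ℂ)) := rfl

theorem isCharacter_gg (θ : D.U →* ℂˣ) : IsCharacter G (D.gg θ) := by
  classical
  have := Fintype.ofFinite D.U
  exact Cfsg.Agent.S0148.result D.U _ (Cfsg.Agent.Characters.Linear.isCharacter_hom θ)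

/-- Frobenius reciprocity. -/
theorem inner_gg [Fintype D.U] (θ : D.U →* ℂˣ) {χ : G → ℂ} (hχ : IsIrrCharacter G χ) :
    classInner (D.gg θ) χ = classInner (fun u => (θ u : ℂ)) (fun u : D.U => χ u) :=
  classInner_indFun D.U _ χ (isIrr_isClassFunction hχ)

/-- The norm of the Gelfand-Graev type character. -/
theorem norm_gg (θ : D.U →* ℂˣ)
    (hθ : ∀ t, t ∈ D.T → t ≠ 1 → ∃ (v : D.U) (h : t⁻¹ * (v : G) * t ∈ D.U), θ v ≠ θ ⟨_, h⟩) :
    classInner (D.gg θ) (D.gg θ) = ((Nat.card D.T + 1 : ℕ) : ℂ) := by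
  classical
  have := Fintype.ofFinite D.U
  have := Fintype.ofFinite D.T
  have := Fintype.ofFinite D.B
  rw [gg_def, classInner_indFun_indFun, D.sum_eq]
  have hirr : IsIrrCharacter D.U (fun b => (θ b : ℂ)) :=
    Cfsg.Agent.Characters.Linear.isIrrCharacter_hom θ
  have h1 : ∀ b : D.B, twist D.U (fun u => (θ u : ℂ)) (fun u => (θ u : ℂ)) b =
      if (b : G) ∈ D.U then (Nat.card D.U : ℂ) else 0 := by
    intro b
    split_ifs with h
    · rw [twist_of_mem D.U _ _ (isIrr_isClassFunction hirr) _ h, classInner_irr_self hirr, mul_one]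
    · apply twist_eq_zero
      obtain ⟨u, hu, t, ht, hb⟩ := D.dec b b.2
      have ht1 : t ≠ 1 := by
        rintro rfl
        apply h
        rw [hb, mul_one]
        exact hu
      obtain ⟨v, hv, hne⟩ := hθ t ht ht1
      have h2 : u * v * u⁻¹ ∈ D.U := D.U.mul_mem (D.U.mul_mem hu v.2) (D.U.inv_mem hu)
      have h3 : (b : G)⁻¹ * (u * v * u⁻¹) * b = t⁻¹ * v * t := by
        rw [hb]; group
      refine ⟨⟨u * v * u⁻¹, h2⟩, by show (b : G)⁻¹ * (u * v * u⁻¹) * b ∈ D.U; rw [h3]; exact hv, ?_⟩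
      have e1 : θ ⟨u * v * u⁻¹, h2⟩ = θ v := by
        have : (⟨u * v * u⁻¹, h2⟩ : D.U) = ⟨u, hu⟩ * v * (⟨u, hu⟩)⁻¹ := rfl
        rw [this, map_mul, map_mul, map_inv, mul_comm (θ ⟨u, hu⟩), mul_inv_cancel_right]
      rw [e1]
      intro h4
      apply hne
      rw [h4]
      congr 1
      exact Subtype.ext h3
  have h2 : ∀ (u : D.U) (b : D.B), twist D.U (fun u => (θ u : ℂ)) (fun u => (θ u : ℂ))
      (u * D.w * b) = 1 := by
    intro u b
    rw [twist_def, Finset.sum_eq_single (1 : D.U)]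
    · have h3 : ((u : G) * D.w * b)⁻¹ * ((1 : D.U) : G) * (u * D.w * b) = ((1 : D.U) : G) := by
        rw [Subgroup.coe_one]; group
      rw [h3, ext_apply_coe, map_one, Units.val_one, map_one, mul_one]
    · intro v _ hv
      rw [ext_apply_not_mem, map_zero, mul_zero]
      intro h
      exact hv (Subtype.ext (D.eq_one_of_conj b.2 u.2 v.2 (D.UB h)))
    · intro h
      exact absurd (Finset.mem_univ _) h
  rw [Finset.sum_congr rfl fun b _ => h1 b,
    Finset.sum_congr rfl fun u _ => Finset.sum_congr rfl fun b _ => h2 u b]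
  have h3 : ∑ b : D.B, (if (b : G) ∈ D.U then (Nat.card D.U : ℂ) else 0) =
      (Nat.card D.U : ℂ) * Nat.card D.U := by
    rw [← Equiv.sum_comp D.borelEquiv, Fintype.sum_prod_type]
    have h4 : ∀ (u : D.U) (t : D.T), (if ((D.borelEquiv (u, t) : D.B) : G) ∈ D.U then
        (Nat.card D.U : ℂ) else 0) = if t = 1 then (Nat.card D.U : ℂ) else 0 := by
      intro u t
      rw [borelEquiv_apply]
      congr 1
      apply propext
      constructor
      · intro h
        have h5 := D.U.mul_mem (D.U.inv_mem u.2) h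
        rw [inv_mul_cancel_left] at h5
        exact Subtype.ext (D.disj _ h5 t.2)
      · rintro rfl
        rw [Subgroup.coe_one, mul_one]
        exact u.2
    rw [Finset.sum_congr rfl fun u _ => Finset.sum_congr rfl fun t _ => h4 u t]
    simp only [Finset.sum_ite_eq', Finset.mem_univ, if_true, Finset.sum_const, Finset.card_univ,
      nsmul_eq_mul, ← Nat.card_eq_fintype_card]
  rw [h3]
  simp only [Finset.sum_const, Finset.card_univ, nsmul_eq_mul, mul_one, ← Nat.card_eq_fintype_card]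
  rw [D.card_B]
  have h5 : (Nat.card D.U : ℂ) ≠ 0 := card_ne_zero'
  push_cast
  field_simp
  ring

/-- The linear characters of `B` trivial on `U` and `w`-invariant. -/
def Inv (f : D.B →* ℂˣ) : Prop :=
  (∀ b : D.B, (b : G) ∈ D.U → f b = 1) ∧
    ∀ t, ∀ ht : t ∈ D.T, f ⟨t, D.TB ht⟩ = f ⟨D.w⁻¹ * t * D.w, D.TB (D.wT t ht)⟩

omit [Fintype G] in
theorem normal_U : (D.U.subgroupOf D.B).Normal := by
  refine ⟨fun n hn g => ?_⟩
  rw [Subgroup.mem_subgroupOf] at hn ⊢
  exact D.nU g g.2 n hn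

/-- Characters with `U`-fixed vectors are in the principal series. -/
theorem exists_ps [Fintype D.U] {χ : G → ℂ} (hχ : IsIrrCharacter G χ)
    (h : classInner (fun u : D.U => χ u) 1 ≠ 0) :
    ∃ f : D.B →* ℂˣ, (∀ b : D.B, (b : G) ∈ D.U → f b = 1) ∧ classInner (D.ps f) χ ≠ 0 := by
  classical
  have := D.normal_U
  have := Fintype.ofFinite (D.U.subgroupOf D.B)
  have hsum : ∑ z : D.U.subgroupOf D.B, χ ((z : D.B) : G) ≠ 0 := by
    intro h0
    apply h
    rw [classInner_def]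
    have h1 : ∑ g : D.U, χ g * conj ((1 : D.U → ℂ) g) = ∑ z : D.U.subgroupOf D.B, χ ((z : D.B) : G) := by
      refine (Fintype.sum_equiv (Subgroup.subgroupOfEquivOfLe D.UB).toEquiv _ _ fun z => ?_).symm
      rw [Pi.one_apply, map_one, mul_one]
      rfl
    rw [h1, h0, mul_zero]
  obtain ⟨μ, hμ⟩ := SuzukiRankOne.M1Mackey.exists_constituent D.B D.U hχ hsum
  -- the quotient is commutative
  have hcomm : IsMulCommutative (D.B ⧸ D.U.subgroupOf D.B) := by
    refine ⟨⟨?_⟩⟩
    intro a b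
    obtain ⟨a, rfl⟩ := QuotientGroup.mk_surjective a
    obtain ⟨b, rfl⟩ := QuotientGroup.mk_surjective b
    have key : ∀ x : D.B, ∃ t : D.B, (t : G) ∈ D.T ∧
        (QuotientGroup.mk x : D.B ⧸ D.U.subgroupOf D.B) = QuotientGroup.mk t := by
      intro x
      obtain ⟨u, hu, t, ht, hx⟩ := D.dec x x.2
      refine ⟨⟨t, D.TB ht⟩, ht, ?_⟩
      have h1 : x = ⟨u, D.UB hu⟩ * ⟨t, D.TB ht⟩ := Subtype.ext hx
      rw [h1, QuotientGroup.mk_mul]
      have h2 : (QuotientGroup.mk (⟨u, D.UB hu⟩ : D.B) : D.B ⧸ D.U.subgroupOf D.B) = 1 :=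
        (QuotientGroup.eq_one_iff _).2 (Subgroup.mem_subgroupOf.2 hu)
      rw [h2, one_mul]
    obtain ⟨s, hs, hs'⟩ := key a
    obtain ⟨t, ht, ht'⟩ := key b
    rw [hs', ht', ← QuotientGroup.mk_mul, ← QuotientGroup.mk_mul]
    congr 1
    exact Subtype.ext (D.comm _ hs _ ht)
  obtain ⟨f0, hf0⟩ := OddOrderCharacters.PrimeTI.exists_hom_of_comm hcomm μ.2
  refine ⟨f0.comp (QuotientGroup.mk' _), ?_, ?_⟩
  · intro b hb
    rw [MonoidHom.comp_apply]
    have h2 : (QuotientGroup.mk' (D.U.subgroupOf D.B)) b = 1 :=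
      (QuotientGroup.eq_one_iff _).2 (Subgroup.mem_subgroupOf.2 hb)
    rw [h2, map_one]
  · have h3 : D.ps (f0.comp (QuotientGroup.mk' _)) = indFun D.B
        ((μ : D.B ⧸ D.U.subgroupOf D.B → ℂ) ∘ QuotientGroup.mk' (D.U.subgroupOf D.B)) := by
      rw [ps_def, hf0]
      rfl
    rw [h3]
    exact hμ

omit [Fintype G] in
theorem inner_add_U [Fintype D.U] (χ χ' : G → ℂ) (φ : D.U → ℂ) :
    classInner (fun u : D.U => (χ + χ') u) φ =
      classInner (fun u : D.U => χ u) φ + classInner (fun u : D.U => χ' u) φ :=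
  classInner_add_left _ _ _

/-- **Existence of a character without linear constituents `1`, `θ` on `U`.** -/
theorem exists_special [Fintype D.U] (θ : D.U →* ℂˣ) (hθ1 : θ ≠ 1)
    (hθ : ∀ t, t ∈ D.T → t ≠ 1 → ∃ (v : D.U) (h : t⁻¹ * (v : G) * t ∈ D.U), θ v ≠ θ ⟨_, h⟩)
    {m : ℕ} [Finite {f : D.B →* ℂˣ // D.Inv f}] (hm : Nat.card {f : D.B →* ℂˣ // D.Inv f} ≤ m)
    (hk : Nat.card D.T + 1 + m < Nat.card (ConjClasses G)) :
    ∃ χ : IrrCharacter G, classInner (fun u : D.U => (χ : G → ℂ) u) (fun u => (θ u : ℂ)) = 0 ∧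
      classInner (fun u : D.U => (χ : G → ℂ) u) 1 = 0 := by
  classical
  have := finite_irr (G := G)
  by_contra hcon
  push Not at hcon
  -- characters with `θ`
  have hsymm : ∀ χ : IrrCharacter G, classInner (D.gg θ) (χ : G → ℂ) ≠ 0 ↔
      classInner (fun u : D.U => (χ : G → ℂ) u) (fun u => (θ u : ℂ)) ≠ 0 := by
    intro χ
    rw [D.inner_gg θ χ.2, ← classInner_conj_symm, Ne, map_eq_zero]
  have hA := card_constituents_le (D.isCharacter_gg θ) (D.norm_gg θ hθ)
  -- the others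
  have hM : ∀ χ : {χ : IrrCharacter G // ¬ classInner (D.gg θ) (χ : G → ℂ) ≠ 0},
      ∃ f : {f : D.B →* ℂˣ // D.Inv f}, classInner (D.ps f.1) (χ.1 : G → ℂ) ≠ 0 := by
    rintro ⟨χ, hχ⟩
    have h0 : classInner (fun u : D.U => (χ : G → ℂ) u) (fun u => (θ u : ℂ)) = 0 := by
      by_contra h
      exact hχ ((hsymm χ).2 h)
    obtain ⟨f, hf, hf2⟩ := D.exists_ps χ.2 (hcon χ h0)
    refine ⟨⟨f, hf, ?_⟩, hf2⟩
    by_contra hw
    push Not at hw
    have hirr := D.isIrr_ps f hw
    have h1 : D.ps f = (χ : G → ℂ) := by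
      by_contra h
      exact hf2 (classInner_irr_ne hirr χ.2 h)
    have h2 := D.inner_U f hf θ hθ1
    rw [h1, h0] at h2
    exact zero_ne_one h2
  choose F hF using hM
  have hFinj : Function.Injective F := by
    intro χ χ' h
    by_contra hne
    have h1 := hF χ
    have h2 := hF χ'
    rw [← h] at h2
    have h3 := eq_add_of_norm_two (D.isCharacter_ps (F χ).1) (D.norm_ps (F χ).1 (F χ).2.2)
      (fun h => hne (Subtype.ext h)) h1 h2
    have h4 := D.inner_U (F χ).1 (F χ).2.1 θ hθ1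
    rw [h3, D.inner_add_U] at h4
    have h5 : ∀ χ : {χ : IrrCharacter G // ¬ classInner (D.gg θ) (χ : G → ℂ) ≠ 0},
        classInner (fun u : D.U => (χ.1 : G → ℂ) u) (fun u => (θ u : ℂ)) = 0 := by
      intro χ
      by_contra h
      exact χ.2 ((hsymm χ.1).2 h)
    rw [h5, h5, add_zero] at h4
    exact zero_ne_one h4
  have hB : Nat.card {χ : IrrCharacter G // ¬ classInner (D.gg θ) (χ : G → ℂ) ≠ 0} ≤ m :=
    (Nat.card_le_card_of_injective F hFinj).trans hm
  have htot : Nat.card (IrrCharacter G) =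
      Nat.card {χ : IrrCharacter G // classInner (D.gg θ) (χ : G → ℂ) ≠ 0} +
        Nat.card {χ : IrrCharacter G // ¬ classInner (D.gg θ) (χ : G → ℂ) ≠ 0} := by
    rw [← Nat.card_sum]
    exact (Nat.card_congr (Equiv.sumCompl
      (fun χ : IrrCharacter G => classInner (D.gg θ) (χ : G → ℂ) ≠ 0))).symm
  rw [card_irr] at htot
  omega

end Split

end Cfsg.Agent.H664.R1
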