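import Cfsg.Agent.H664.R1.NoFix
import Cfsg.Agent.CharactersDeep.SmallDegree
set_option linter.all false

/-!
# Characters of groups of Heisenberg type (helper664)

`P` with a central subgroup `Z` such that for `u ∉ Z` all elements of `u Z` are conjugate to `u`.

* `fixed_or_vanish` : an irreducible character of `P` is constant on `Z`, or vanishes off `Z`,
  `θ(1)² |Z| = |P|` and the sum over `Z` is zero;
* `dvd_sub` : if `|P| = q² |Z|`, then `Θ(1) - ⟨Θ|_Z, 1⟩` is divisible by `q`.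
-/

set_option autoImplicit false

open Cfsg
open scoped ComplexConjugate

namespace Cfsg.Agent.H664.R1.Heis

open Cfsg.Agent.Characters.Core Cfsg.Agent.OddOrderCharacters.Clifford
  Cfsg.Agent.CharactersDeep.MackeyLinear

universe u

variable {P : Type u} [Group P] [Fintype P] {Z : Subgroup P}

theorem fixed_or_vanish [Fintype Z] (hZ : ∀ z ∈ Z, ∀ g, g * z = z * g)
    (hc : ∀ u, u ∉ Z → ∀ z ∈ Z, ∃ v, v * u * v⁻¹ = u * z) {θ : P → ℂ} (hθ : IsIrrCharacter P θ) :
    (∀ z ∈ Z, θ z = θ 1) ∨ ((∀ u, u ∉ Z → θ u = 0) ∧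
      θ 1 ^ 2 * Nat.card Z = Nat.card P ∧ ∑ z : Z, θ z = 0) := by
  classical
  by_cases h : ∀ z ∈ Z, θ z = θ 1
  · exact Or.inl h
  right
  push Not at h
  obtain ⟨z0, hz0, hne⟩ := h
  obtain ⟨ω, hω, hω'⟩ := CharactersDeep.SmallDegree.exists_central_mul hθ (hZ z0 hz0)
  have hω1 : ω ≠ 1 := by
    rintro rfl
    apply hne
    have := hω' 1
    rwa [one_mul, one_mul] at this
  have hvan : ∀ u, u ∉ Z → θ u = 0 := by
    intro u hu
    obtain ⟨v, hv⟩ := hc u hu z0 hz0
    have h1 : θ u = ω * θ u := by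
      rw [← hω', ← hv]
      exact (isIrr_isClassFunction hθ u v).symm
    have h2 : (1 - ω) * θ u = 0 := by linear_combination h1
    exact (mul_eq_zero.1 h2).resolve_left (sub_ne_zero.2 (Ne.symm hω1))
  obtain ⟨n, hn0, hn⟩ := isIrr_apply_one hθ
  refine ⟨hvan, ?_, ?_⟩
  · have h1 := classInner_irr_self hθ
    rw [classInner_def] at h1
    have h2 : ∀ g : P, θ g * conj (θ g) = if g ∈ Z then (θ 1 ^ 2 : ℂ) else 0 := by
      intro g
      split_ifs with hg
      · rw [Complex.mul_conj]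
        have h3 := CharactersDeep.SmallDegree.normSq_mul_central hθ (hZ g hg) 1
        rw [one_mul] at h3
        rw [h3, hn, Complex.normSq_natCast]
        push_cast
        ring
      · rw [hvan g hg, zero_mul]
    rw [Finset.sum_congr rfl fun g _ => h2 g, ← Finset.sum_filter] at h1
    rw [Finset.sum_const, nsmul_eq_mul] at h1
    have h4 : ((Finset.univ.filter fun g => g ∈ Z).card : ℂ) = Nat.card Z := by
      rw [Nat.card_eq_fintype_card, Fintype.card_subtype]
    rw [h4] at h1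
    have hP : (Nat.card P : ℂ) ≠ 0 := card_ne_zero'
    field_simp at h1
    linear_combination h1
  · have h1 : ∑ z : Z, θ z = ω * ∑ z : Z, θ z := by
      rw [Finset.mul_sum]
      refine (Fintype.sum_equiv (Equiv.mulRight (⟨z0, hz0⟩ : Z)) _ _ fun z => ?_).symm
      rw [← hω']
      rfl
    have h2 : (1 - ω) * ∑ z : Z, θ z = 0 := by linear_combination h1
    exact (mul_eq_zero.1 h2).resolve_left (sub_ne_zero.2 (Ne.symm hω1))

/-- The part of a character which is not trivial on `Z` has degree divisible by `q`. -/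
theorem dvd_sub [Fintype Z] (hZ : ∀ z ∈ Z, ∀ g, g * z = z * g)
    (hc : ∀ u, u ∉ Z → ∀ z ∈ Z, ∃ v, v * u * v⁻¹ = u * z) {q : ℕ}
    (hP : Nat.card P = q ^ 2 * Nat.card Z) {Θ : P → ℂ} (hΘ : IsCharacter P Θ) :
    ∃ n m : ℕ, Θ 1 = n ∧ ∑ z : Z, Θ z = Nat.card Z * m ∧ (q : ℤ) ∣ n - m ∧ m ≤ n := by
  classical
  have := finite_irr (G := P)
  have := Fintype.ofFinite (IrrCharacter P)
  have hirr : ∀ θ : IrrCharacter P, ∃ n m : ℕ, (θ : P → ℂ) 1 = n ∧
      ∑ z : Z, (θ : P → ℂ) z = Nat.card Z * m ∧ (q : ℤ) ∣ n - m ∧ m ≤ n := by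
    intro θ
    obtain ⟨n, hn0, hn⟩ := isIrr_apply_one θ.2
    rcases fixed_or_vanish hZ hc θ.2 with h | ⟨-, h1, h2⟩
    · refine ⟨n, n, hn, ?_, by rw [sub_self]; exact dvd_zero _, le_rfl⟩
      rw [Finset.sum_congr rfl fun (z : Z) _ => h z z.2, Finset.sum_const, Finset.card_univ,
        nsmul_eq_mul, hn, Nat.card_eq_fintype_card]
    · refine ⟨n, 0, hn, by rw [h2, Nat.cast_zero, mul_zero], ?_, Nat.zero_le _⟩
      rw [hn, hP] at h1
      have h3 : n ^ 2 * Nat.card Z = q ^ 2 * Nat.card Z := by exact_mod_cast h1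
      have h4 : n ^ 2 = q ^ 2 := Nat.eq_of_mul_eq_mul_right Nat.card_pos h3
      have h5 : n = q := Nat.pow_left_injective (n := 2) (by norm_num) h4
      rw [h5, Nat.cast_zero, sub_zero]
  choose n m hn hm hd hle using hirr
  obtain ⟨c, rfl⟩ := exists_nat_comb hΘ
  refine ⟨∑ θ : IrrCharacter P, c θ * n θ, ∑ θ : IrrCharacter P, c θ * m θ, ?_, ?_, ?_,
    Finset.sum_le_sum fun θ _ => Nat.mul_le_mul_left _ (hle θ)⟩
  · rw [Finset.sum_apply]
    push_cast
    refine Finset.sum_congr rfl fun θ _ => ?_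
    rw [Pi.smul_apply, nsmul_eq_mul, hn]
  · push_cast
    rw [Finset.mul_sum]
    have h1 : ∀ z : Z, (∑ θ : IrrCharacter P, c θ • (θ : P → ℂ)) z =
        ∑ θ : IrrCharacter P, (c θ : ℂ) * (θ : P → ℂ) z := by
      intro z
      rw [Finset.sum_apply]
      refine Finset.sum_congr rfl fun θ _ => ?_
      rw [Pi.smul_apply, nsmul_eq_mul]
    rw [Finset.sum_congr rfl fun z _ => h1 z, Finset.sum_comm]
    refine Finset.sum_congr rfl fun θ _ => ?_
    rw [← Finset.mul_sum, hm]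
    ring
  · push_cast
    rw [← Finset.sum_sub_distrib]
    refine Finset.dvd_sum fun θ _ => ?_
    rw [← mul_sub]
    exact (hd θ).mul_left _

end Cfsg.Agent.H664.R1.Heis
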