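import Cfsg.Agent.H664.R1.Split
import Cfsg.Agent.H664.R1.Count
import Cfsg.Agent.H681.DegBasic
import Cfsg.Agent.H664.R1.Heis
import Cfsg.Agent.Characters.CentralCharacter
import Mathlib.GroupTheory.FiniteAbelian.Duality
import Mathlib.GroupTheory.Sylow
import Cfsg.Agent.FastGrp
import Cfsg.Agent.Prune
set_option linter.all false

section
prune_inst 0x7f00000000000000000000000000000000000000000000000000000000000000000000000000000000000000000000000000000000000000000000000000000000000000000000000000000000000000003fffffffffffffffffffffffffffbeffbdfbfeffff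

-- part: H664/R1/SplitSub
section
set_option linter.all false
open scoped Cfsg.Agent.FastGrp

/-!
# Quotients and subgroups of split rank one groups (helper664)

* `Split.quot` : the quotient by a normal subgroup contained in the torus;
* `Split.res` : the subgroups containing `U` and `w`.
-/

set_option autoImplicit false

namespace Cfsg.Agent.H664.R1

universe u

namespace Split

variable {G : Type u} [Group G] (D : Split G)

/-- The quotient by a normal subgroup contained in the torus. -/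
def quot (Z : Subgroup G) [Z.Normal] (hZ : Z ≤ D.T) : Split (G ⧸ Z) where
  B := D.B.map (QuotientGroup.mk' Z)
  U := D.U.map (QuotientGroup.mk' Z)
  T := D.T.map (QuotientGroup.mk' Z)
  w := QuotientGroup.mk' Z D.w
  UB := Subgroup.map_mono D.UB
  TB := Subgroup.map_mono D.TB
  nU := by
    rintro _ ⟨b, hb, rfl⟩ _ ⟨u, hu, rfl⟩
    exact ⟨b * u * b⁻¹, D.nU b hb u hu, by simp only [map_mul, map_inv]⟩
  dec := by
    rintro _ ⟨b, hb, rfl⟩
    obtain ⟨u, hu, t, ht, rfl⟩ := D.dec b hb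
    exact ⟨_, ⟨u, hu, rfl⟩, _, ⟨t, ht, rfl⟩, map_mul _ _ _⟩
  disj := by
    rintro _ ⟨u, hu, rfl⟩ ⟨t, ht, h⟩
    have h1 : t⁻¹ * u ∈ Z := by
      rw [← QuotientGroup.ker_mk' Z, MonoidHom.mem_ker, map_mul, map_inv, h, inv_mul_cancel]
    have h2 : u ∈ D.T := by
      have := D.T.mul_mem ht (hZ h1)
      rwa [mul_inv_cancel_left] at this
    rw [D.disj u hu h2, map_one]
  comm := by
    rintro _ ⟨s, hs, rfl⟩ _ ⟨t, ht, rfl⟩
    rw [← map_mul, ← map_mul, D.comm s hs t ht]
  wT := by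
    rintro _ ⟨t, ht, rfl⟩
    exact ⟨_, D.wT t ht, by simp only [map_mul, map_inv]⟩
  wT' := by
    rintro _ ⟨t, ht, rfl⟩
    exact ⟨_, D.wT' t ht, by simp only [map_mul, map_inv]⟩
  cap := by
    rintro _ ⟨b, hb, rfl⟩ ⟨c, hc, h⟩
    have h1 : c⁻¹ * (D.w⁻¹ * b * D.w) ∈ Z := by
      rw [← QuotientGroup.ker_mk' Z, MonoidHom.mem_ker, map_mul, map_inv, h]
      simp only [map_mul, map_inv]
      group
    have h2 : D.w⁻¹ * b * D.w ∈ D.B := by
      have := D.B.mul_mem hc (D.TB (hZ h1))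
      rwa [mul_inv_cancel_left] at this
    exact ⟨b, D.cap b hb h2, rfl⟩
  big := by
    intro x hx
    obtain ⟨g, rfl⟩ := QuotientGroup.mk'_surjective Z x
    have hg : g ∉ D.B := fun h => hx ⟨g, h, rfl⟩
    obtain ⟨b, hb, c, hc, rfl⟩ := D.big g hg
    exact ⟨_, ⟨b, hb, rfl⟩, _, ⟨c, hc, rfl⟩, by simp only [map_mul]⟩
  wB := by
    rintro ⟨b, hb, h⟩
    have h1 : b⁻¹ * D.w ∈ Z := by
      rw [← QuotientGroup.ker_mk' Z, MonoidHom.mem_ker, map_mul, map_inv, h, inv_mul_cancel]
    apply D.wB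
    have := D.B.mul_mem hb (D.TB (hZ h1))
    rwa [mul_inv_cancel_left] at this

/-- Subgroups containing `U` and `w`. -/
def res (S : Subgroup G) (hU : D.U ≤ S) (hw : D.w ∈ S) : Split S where
  B := D.B.subgroupOf S
  U := D.U.subgroupOf S
  T := D.T.subgroupOf S
  w := ⟨D.w, hw⟩
  UB := fun _ h => D.UB h
  TB := fun _ h => D.TB h
  nU := fun b hb u hu => D.nU b hb u hu
  dec := by
    rintro ⟨b, hbS⟩ hb
    obtain ⟨u, hu, t, ht, h⟩ := D.dec b hb
    have htS : t ∈ S := by
      have : t = u⁻¹ * b := by rw [h]; group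
      rw [this]
      exact S.mul_mem (S.inv_mem (hU hu)) hbS
    exact ⟨⟨u, hU hu⟩, hu, ⟨t, htS⟩, ht, Subtype.ext h⟩
  disj := fun u hu ht => Subtype.ext (D.disj u hu ht)
  comm := fun s hs t ht => Subtype.ext (D.comm s hs t ht)
  wT := fun t ht => D.wT t ht
  wT' := fun t ht => D.wT' t ht
  cap := fun b hb h => D.cap b hb h
  big := by
    rintro ⟨x, hxS⟩ hx
    obtain ⟨b, hb, c, hc, h⟩ := D.big x hx
    obtain ⟨u, hu, t, ht, rfl⟩ := D.dec b hb
    have h1 : x = u * D.w * (D.w⁻¹ * t * D.w * c) := by rw [h]; group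
    have h2 : D.w⁻¹ * t * D.w * c ∈ D.B := D.B.mul_mem (D.TB (D.wT t ht)) hc
    have h3 : D.w⁻¹ * t * D.w * c ∈ S := by
      have : D.w⁻¹ * t * D.w * c = (u * D.w)⁻¹ * x := by rw [h1]; group
      rw [this]
      exact S.mul_mem (S.inv_mem (S.mul_mem (hU hu) hw)) hxS
    exact ⟨⟨u, hU hu⟩, D.UB hu, ⟨_, h3⟩, h2, Subtype.ext h1⟩
  wB := D.wB

end Split

end Cfsg.Agent.H664.R1
end

-- part: H664/R1/SplitMore
section
set_option linter.all false
open scoped Cfsg.Agent.FastGrp

/-!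
# Groups with a split BN pair of rank one: more on the principal series (helper664)

* `steinberg` : `|U|` is a degree, the nontrivial constituent of `ps 1`;
* `ps_apply` : a formula for the principal series, `ps_res` : restriction to subgroups containing `U`, `w`.
-/

set_option autoImplicit false

open Cfsg
open scoped ComplexConjugate

namespace Cfsg.Agent.H664.R1

open Cfsg.Agent.Characters.Core Cfsg.Agent.OddOrderCharacters.Clifford
  Cfsg.Agent.CharactersDeep.MackeyLinear Cfsg.Agent.H681.DegBasic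

universe u

namespace Split

variable {G : Type u} [Group G] (D : Split G) [Fintype G]

/-- Frobenius reciprocity. -/
theorem inner_ps [Fintype D.B] (f : D.B →* ℂˣ) {χ : G → ℂ} (hχ : IsIrrCharacter G χ) :
    classInner (D.ps f) χ = classInner (fun b => (f b : ℂ)) (fun b : D.B => χ b) :=
  classInner_indFun D.B _ χ (isIrr_isClassFunction hχ)

/-- The trivial character occurs once in `ps 1`. -/
theorem inner_ps_one : classInner (D.ps 1) (1 : G → ℂ) = 1 := by
  classical
  have := Fintype.ofFinite D.B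
  rw [D.inner_ps 1 isIrr_one]
  have h := classInner_irr_self (isIrr_one (G := D.B))
  have e1 : (fun b => (((1 : D.B →* ℂˣ) b : ℂˣ) : ℂ)) = (1 : D.B → ℂ) := by
    funext b
    rfl
  rw [e1]
  exact h

/-- Only `ps 1` contains the trivial character. -/
theorem inner_ps_one_eq_zero (f : D.B →* ℂˣ) (hf : f ≠ 1) :
    classInner (D.ps f) (1 : G → ℂ) = 0 := by
  classical
  have := Fintype.ofFinite D.B
  rw [D.inner_ps f isIrr_one]
  refine classInner_irr_ne (Cfsg.Agent.Characters.Linear.isIrrCharacter_hom f)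
    (isIrr_one (G := D.B)) ?_
  intro h
  apply hf
  ext b
  have := congrFun h b
  simpa using this

/-- The Steinberg character. -/
theorem exists_steinberg : ∃ χ : IrrCharacter G, D.ps 1 = 1 + (χ : G → ℂ) := by
  obtain ⟨χ, χ', hne, h⟩ := exists_two (D.isCharacter_ps 1) (D.norm_ps 1 fun _ _ => rfl)
  have h1 := D.inner_ps_one
  rw [h, classInner_add_left] at h1
  by_cases h2 : (χ : G → ℂ) = 1
  · exact ⟨χ', by rw [h, h2]⟩
  by_cases h3 : (χ' : G → ℂ) = 1
  · exact ⟨χ, by rw [h, h3, add_comm]⟩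
  rw [classInner_irr_ne χ.2 isIrr_one h2, classInner_irr_ne χ'.2 isIrr_one h3, add_zero] at h1
  exact absurd h1 zero_ne_one

/-- The Steinberg degree. -/
theorem steinberg : Nat.card D.U ∈ charDegrees G := by
  obtain ⟨χ, h⟩ := D.exists_steinberg
  refine mem_charDegrees.2 ⟨_, χ.2, ?_⟩
  have h1 := congrFun h 1
  rw [D.ps_one, Pi.add_apply, Pi.one_apply] at h1
  linear_combination -h1

/-- A formula for the principal series. -/
theorem ps_apply [Fintype D.U] (f : D.B →* ℂˣ) (g : G) :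
    D.ps f g = extendByZero D.B (fun b => (f b : ℂ)) g +
      ∑ u : D.U, extendByZero D.B (fun b => (f b : ℂ)) (((u : G) * D.w)⁻¹ * g * ((u : G) * D.w)) := by
  classical
  have := Fintype.ofFinite D.B
  have key : ∀ (x : G) (b : D.B), extendByZero D.B (fun b => (f b : ℂ)) ((b : G)⁻¹ * x * b) =
      extendByZero D.B (fun b => (f b : ℂ)) x := by
    intro x b
    by_cases hx : x ∈ D.B
    · have h1 : (b : G)⁻¹ * x * b ∈ D.B := D.B.mul_mem (D.B.mul_mem (D.B.inv_mem b.2) hx) b.2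
      rw [ext_apply_mem D.B _ _ hx, ext_apply_mem D.B _ _ h1]
      have : (⟨(b : G)⁻¹ * x * b, h1⟩ : D.B) = b⁻¹ * ⟨x, hx⟩ * b := rfl
      rw [this, map_mul, map_mul, map_inv, mul_comm _ (f b), mul_inv_cancel_left]
    · rw [ext_apply_not_mem D.B _ _ hx]
      apply ext_apply_not_mem
      intro h
      apply hx
      have h2 := D.B.mul_mem (D.B.mul_mem b.2 h) (D.B.inv_mem b.2)
      have h3 : (b : G) * ((b : G)⁻¹ * x * b) * (b : G)⁻¹ = x := by group
      rwa [h3] at h2
  rw [ps_def, OddOrderCharacters.Clifford.indFun_apply, D.sum_eq]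
  have h2 : ∀ (u : D.U) (b : D.B), extendByZero D.B (fun b => (f b : ℂ))
      (((u : G) * D.w * b)⁻¹ * g * ((u : G) * D.w * b)) =
      extendByZero D.B (fun b => (f b : ℂ)) (((u : G) * D.w)⁻¹ * g * ((u : G) * D.w)) := by
    intro u b
    rw [← key (((u : G) * D.w)⁻¹ * g * ((u : G) * D.w)) b]
    congr 1
    group
  rw [Finset.sum_congr rfl fun b _ => key g b,
    Finset.sum_congr rfl fun u _ => Finset.sum_congr rfl fun b _ => h2 u b]
  simp only [Finset.sum_const, Finset.card_univ, nsmul_eq_mul, ← Nat.card_eq_fintype_card]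
  rw [← Finset.mul_sum, ← mul_add, ← mul_assoc, inv_mul_cancel₀ card_ne_zero', one_mul]

/-- Restriction of the principal series to the subgroups containing `U` and `w`. -/
theorem ps_res (S : Subgroup G) [Fintype S] (hU : D.U ≤ S) (hw : D.w ∈ S) (f : D.B →* ℂˣ)
    (f' : (D.res S hU hw).B →* ℂˣ)
    (hf : ∀ (b : S) (hb : (b : G) ∈ D.B), f' ⟨b, hb⟩ = f ⟨b, hb⟩) (g : S) :
    (D.res S hU hw).ps f' g = D.ps f g := by
  classical
  have := Fintype.ofFinite D.U
  have := Fintype.ofFinite (D.res S hU hw).U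
  rw [D.ps_apply f g, (D.res S hU hw).ps_apply f' g]
  have key : ∀ x : S, extendByZero (D.res S hU hw).B (fun b => (f' b : ℂ)) x =
      extendByZero D.B (fun b => (f b : ℂ)) (x : G) := by
    intro x
    by_cases hx : (x : G) ∈ D.B
    · have hx' : x ∈ (D.res S hU hw).B := hx
      rw [ext_apply_mem _ _ _ hx, ext_apply_mem _ _ _ hx']
      exact congrArg _ (hf x hx)
    · have hx' : x ∉ (D.res S hU hw).B := hx
      rw [ext_apply_not_mem _ _ _ hx, ext_apply_not_mem _ _ _ hx']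
  have h : ∑ u : (D.res S hU hw).U, extendByZero (D.res S hU hw).B (fun b => (f' b : ℂ))
      (((u : S) * (D.res S hU hw).w)⁻¹ * g * ((u : S) * (D.res S hU hw).w)) =
      ∑ u : D.U, extendByZero D.B (fun b => (f b : ℂ)) (((u : G) * D.w)⁻¹ * g * ((u : G) * D.w)) := by
    let e : (D.res S hU hw).U ≃ D.U := (Subgroup.subgroupOfEquivOfLe hU).toEquiv
    refine Fintype.sum_equiv e _ _ fun u => ?_
    rw [key]
    rfl
  rw [h, key]

end Split

end Cfsg.Agent.H664.R1
end

-- part: H664/R1/RankDeg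
section
set_option linter.all false
open scoped Cfsg.Agent.FastGrp

/-!
# The degrees of the constituents of the reducible principal series of `PGU(3,q)` (helper664)

* `arith` : the number theory;
* `exact_degrees` : they are `q² - q + 1` and `q (q² - q + 1)`.
-/

set_option autoImplicit false

open Cfsg
open scoped ComplexConjugate

namespace Cfsg.Agent.H664.R1

open Cfsg.Agent.Characters.Core Cfsg.Agent.OddOrderCharacters.Clifford
  Cfsg.Agent.CharactersDeep.MackeyLinear

universe u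

theorem arith {q : ℤ} (hq : 3 ≤ q) {n a : ℤ} (h1 : n = q - (q - 1) * a) (h2 : q ∣ n - 1)
    (h3 : n ∣ (q ^ 3 + 1) * (q - 1) * a) (hn : n ≠ 1) (hn0 : 0 < n) : n = q ^ 2 - q + 1 := by
  have hc : IsCoprime q (q - 1) := ⟨1, -1, by ring⟩
  obtain ⟨m, hm⟩ : q ∣ 1 - a := by
    refine hc.dvd_of_dvd_mul_left ?_
    have : n - 1 = (q - 1) * (1 - a) := by rw [h1]; ring
    rwa [this] at h2
  have ha : a = 1 - q * m := by linear_combination -hm
  subst ha
  have hn' : n = 1 + q * (q - 1) * m := by rw [h1]; ring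
  have hm0 : 1 ≤ m := by
    by_contra hcon
    have h4 : m ≤ 0 := by omega
    rcases eq_or_lt_of_le h4 with h5 | h5
    · rw [h5] at hn'
      exact hn (by rw [hn']; ring)
    · have h6 : q * (q - 1) * m < 0 := mul_neg_of_pos_of_neg (by nlinarith only [hq]) h5
      have h7 : 1 < q * (q - 1) := by linarith only [hn0, h1, h6]
      linarith only [hn0, h1, h6]
  have hc1 : IsCoprime n (q - 1) := ⟨1, -(q * m), by rw [hn']; ring⟩
  have hc2 : IsCoprime n (1 - q * m) := ⟨m, 1 + (q - 1) * m, by rw [hn']; ring⟩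
  have h4 : n ∣ q ^ 3 + 1 := by
    refine hc1.dvd_of_dvd_mul_right ?_
    exact hc2.dvd_of_dvd_mul_right h3
  obtain ⟨e, he⟩ := h4
  have he0 : 0 < e := by
    by_contra hcon
    have : n * e ≤ 0 := mul_nonpos_of_nonneg_of_nonpos hn0.le (by omega)
    have : 0 < q ^ 3 + 1 := by positivity
    omega
  have h5 : e = q + 1 + q * (q - 1) * (q + 1 - m * e) := by
    have : q ^ 3 + 1 = (1 + q * (q - 1) * m) * e := by rw [he, hn']
    linear_combination -this
  have h6 : 0 ≤ q + 1 - m * e := by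
    by_contra hcon
    have h7 : q + 1 - m * e ≤ -1 := by omega
    have h8 : 0 < q * (q - 1) := by nlinarith only [hq]
    nlinarith only [hq, he0, h5, hcon, h8]
  have h7 : q + 1 ≤ e := by
    have h8 : 0 < q * (q - 1) := by nlinarith only [hq]
    nlinarith only [hq, hn0, h1, hm0, he, h6]
  have h8 : m = 1 := by
    have h9 : m * e ≤ e := by linarith
    nlinarith only [hq, hn0, h1, hm0, he, h6]
  rw [hn', h8]
  ring

/-- Integrality of central characters. -/
theorem isIntegral_central {G : Type u} [Group G] [Finite G] {χ : G → ℂ} (hχ : IsIrrCharacter G χ)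
    (g : G) : IsIntegral ℤ (((Subgroup.centralizer ({g} : Set G)).index : ℂ) * χ g / χ 1) := by
  obtain ⟨n, ρ, hρ, rfl⟩ := hχ
  have h := Characters.CentralCharacter.isIntegral_index_mul_character_div ρ g
  have h1 : (ρ.character 1 : ℂ) = (Module.finrank ℂ (Fin n → ℂ) : ℂ) := ρ.char_one
  rw [← h1] at h
  exact h

/-- The degree divides class size times value. -/
theorem dvd_central {G : Type u} [Group G] [Finite G] {χ : G → ℂ} (hχ : IsIrrCharacter G χ)
    {g : G} {n : ℕ} {a : ℤ} (hn : χ 1 = n) (ha : χ g = a) {N : ℕ}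
    (hN : (Subgroup.centralizer ({g} : Set G)).index ∣ N) : (n : ℤ) ∣ N * a := by
  have h := isIntegral_central hχ g
  have hn0 : (n : ℂ) ≠ 0 := by
    rw [← hn]
    exact isIrr_apply_one_ne_zero hχ
  rw [hn, ha] at h
  obtain ⟨e, he⟩ := (h.exists_int_iff_exists_rat).1
    ⟨((Subgroup.centralizer ({g} : Set G)).index : ℚ) * a / n, by push_cast; rfl⟩
  rw [div_eq_iff hn0] at he
  have h1 : ((Subgroup.centralizer ({g} : Set G)).index : ℤ) * a = e * n := by exact_mod_cast he
  have h2 : (n : ℤ) ∣ ((Subgroup.centralizer ({g} : Set G)).index : ℤ) * a := ⟨e, by rw [h1]; ring⟩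
  exact h2.trans (mul_dvd_mul_right (Int.natCast_dvd_natCast.2 hN) _)

/-- Fusion in `PGU(3,q)`. -/
structure Fus {G : Type u} [Group G] (D : Split G) (X : Subgroup G) (q : ℕ) : Prop where
  hq : 3 ≤ q
  cU : Nat.card D.U = q ^ 3
  cX : Nat.card X = q
  XU : X ≤ D.U
  cen : ∀ x ∈ X, ∀ u ∈ D.U, u * x = x * u
  com : ∀ u ∈ D.U, u ∉ X → ∀ x ∈ X, ∃ v ∈ D.U, v * u * v⁻¹ = u * x
  nX : ∀ b ∈ D.B, ∀ x ∈ X, b * x * b⁻¹ ∈ X
  f1 : ∀ x ∈ X, x ≠ 1 → ∀ y ∈ X, y ≠ 1 → ∃ b ∈ D.B, b * x * b⁻¹ = y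
  f2 : ∀ u ∈ D.U, u ∉ X → ∀ v ∈ D.U, v ∉ X → ∃ g, g * u * g⁻¹ = v

namespace Fus

variable {G : Type u} [Group G] {D : Split G} {X : Subgroup G} {q : ℕ} (H : Fus D X q)

include H

theorem exists_x : ∃ x ∈ X, x ≠ 1 := by
  by_contra hcon
  push Not at hcon
  have h1 : X = ⊥ := by
    rw [eq_bot_iff]
    exact fun x hx => Subgroup.mem_bot.2 (hcon x hx)
  have h2 := H.cX
  rw [h1, Subgroup.card_bot] at h2
  have := H.hq
  omega

theorem exists_u : ∃ u ∈ D.U, u ∉ X := by
  by_contra hcon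
  push Not at hcon
  have h1 : X = D.U := le_antisymm H.XU hcon
  have h2 := H.cX
  rw [h1, H.cU] at h2
  have h3 := H.hq
  have h4 : q ^ 3 = q * (q * q) := by ring
  have h5 : q * (3 * 3) ≤ q * (q * q) := Nat.mul_le_mul_left _ (Nat.mul_le_mul h3 h3)
  omega

/-- The class size of the elements of `X`. -/
theorem index_dvd [Finite G] {x : G} (hx : x ∈ X) (hx1 : x ≠ 1) :
    (Subgroup.centralizer ({x} : Set G)).index ∣ (q ^ 3 + 1) * (q - 1) := by
  have hxB : x ∈ D.B := D.UB (H.XU hx)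
  have h1 : ((Subgroup.centralizer ({x} : Set G)).subgroupOf D.B) =
      Subgroup.centralizer ({(⟨x, hxB⟩ : D.B)} : Set D.B) := by
    ext b
    rw [Subgroup.mem_subgroupOf, Subgroup.mem_centralizer_singleton_iff,
      Subgroup.mem_centralizer_singleton_iff]
    exact ⟨fun h => Subtype.ext h, fun h => congrArg Subtype.val h⟩
  have h2 : ((Subgroup.centralizer ({x} : Set G)).subgroupOf D.B).index = q - 1 := by
    rw [h1, Characters.CentralCharacter.index_centralizer_eq_card]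
    have e : {y : D.B // IsConj (⟨x, hxB⟩ : D.B) y} ≃ {y : X // y ≠ 1} :=
      { toFun := fun y => ⟨⟨((y : D.B) : G), by
          obtain ⟨c, hc⟩ := isConj_iff.1 y.2
          have : ((y : D.B) : G) = c * x * (c : G)⁻¹ := by rw [← hc]; rfl
          rw [this]
          exact H.nX c c.2 x hx⟩, by
          intro h
          have h3 : ((y : D.B) : G) = 1 := congrArg Subtype.val h
          obtain ⟨c, hc⟩ := isConj_iff.1 y.2
          have h4 : c * x * (c : G)⁻¹ = 1 := by rw [← h3, ← hc]; rfl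
          exact hx1 (conj_eq_one_iff.1 h4)⟩
        invFun := fun y => ⟨⟨(y : X), D.UB (H.XU y.1.2)⟩, by
          obtain ⟨b, hb, hb'⟩ := H.f1 x hx hx1 y.1 y.1.2 (fun h => y.2 (Subtype.ext h))
          exact isConj_iff.2 ⟨⟨b, hb⟩, Subtype.ext hb'⟩⟩
        left_inv := fun y => rfl
        right_inv := fun y => rfl }
    rw [Nat.card_congr e]
    classical
    have : Finite X := inferInstance
    have := Fintype.ofFinite X
    rw [Nat.card_eq_fintype_card, Fintype.card_subtype_compl, Fintype.card_subtype_eq,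
      ← Nat.card_eq_fintype_card, H.cX]
  have h3 : (Subgroup.centralizer ({x} : Set G) ⊓ D.B).index = (q ^ 3 + 1) * (q - 1) := by
    rw [← Subgroup.relIndex_mul_index (inf_le_right : Subgroup.centralizer ({x} : Set G) ⊓ D.B ≤ D.B),
      Subgroup.inf_relIndex_right, D.index_B, H.cU, Subgroup.relIndex, h2, mul_comm]
  rw [← h3]
  exact Subgroup.index_dvd_of_le inf_le_left

/-- The values of an irreducible character on `U`. -/
theorem values [Fintype G] [Fintype D.U] {χ : G → ℂ} (hχ : IsIrrCharacter G χ) {x u : G}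
    (hx : x ∈ X) (hx1 : x ≠ 1) (hu : u ∈ D.U) (hu1 : u ∉ X) :
    ∃ (n m k : ℕ) (a b : ℤ), χ 1 = n ∧ χ x = a ∧ χ u = b ∧
      classInner (fun u : D.U => χ u) 1 = k ∧
      (q : ℤ) * m = n + (q - 1) * a ∧ (q : ℤ) ^ 3 * k = q * m + (q ^ 3 - q) * b ∧
      (q : ℤ) ∣ n - m ∧ (n : ℤ) ∣ (q ^ 3 + 1) * (q - 1) * a ∧ m ≤ n := by
  classical
  have hq := H.hq
  have hcf := isIrr_isClassFunction hχ
  have hch := isIrr_isCharacter hχ
  have hcU : IsCharacter D.U (fun u : D.U => χ u) := isCharacter_comp D.U.subtype hch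
  have := Fintype.ofFinite X
  have := Fintype.ofFinite (X.subgroupOf D.U)
  obtain ⟨n, hn0, hn⟩ := isIrr_apply_one hχ
  have hint : ∀ g : G, IsIntegral ℤ (χ g) := fun g =>
    Characters.GaloisBasic.isIntegral_apply hch g
  -- the Heisenberg part
  have hcZ : Nat.card (X.subgroupOf D.U) = q := by
    rw [← H.cX]
    exact Nat.card_congr (Subgroup.subgroupOfEquivOfLe H.XU).toEquiv
  obtain ⟨n', m, hn', hm, hd, hmn⟩ := Heis.dvd_sub (Z := X.subgroupOf D.U)
    (fun z hz g => Subtype.ext (H.cen _ (Subgroup.mem_subgroupOf.1 hz) g g.2))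
    (fun u hu z hz => by
      obtain ⟨v, hv, hv'⟩ := H.com u u.2 (fun h => hu (Subgroup.mem_subgroupOf.2 h)) z
        (Subgroup.mem_subgroupOf.1 hz)
      exact ⟨⟨v, hv⟩, Subtype.ext hv'⟩)
    (q := q) (by rw [H.cU, hcZ]; ring) hcU
  have hnn : n' = n := by
    have h1 : (n' : ℂ) = n := by rw [← hn', ← hn]; rfl
    exact_mod_cast h1
  subst hnn
  -- the sum over `X`
  have hsX : ∑ z : X.subgroupOf D.U, χ ((z : D.U) : G) = n' + (q - 1) * χ x := by
    have h1 : ∀ z : X.subgroupOf D.U, χ ((z : D.U) : G) = (if z = 1 then (n' : ℂ) - χ x else 0) + χ x := by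
      intro z
      split_ifs with hz
      · rw [hz, Subgroup.coe_one, Subgroup.coe_one, hn]; ring
      · rw [zero_add]
        obtain ⟨b, -, hb⟩ := H.f1 x hx hx1 ((z : D.U) : G) (Subgroup.mem_subgroupOf.1 z.2)
          (fun h => hz (Subtype.ext (Subtype.ext h)))
        rw [← hb]
        exact hcf _ _
    rw [Finset.sum_congr rfl fun z _ => h1 z, Finset.sum_add_distrib,
      Finset.sum_ite_eq' Finset.univ, if_pos (Finset.mem_univ _), Finset.sum_const,
      Finset.card_univ, nsmul_eq_mul, ← Nat.card_eq_fintype_card, hcZ]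
    ring
  have hsX' : (q : ℂ) * m = n' + (q - 1) * χ x := by
    rw [← hsX, ← hcZ]
    exact hm.symm
  -- the sum over `U`
  have hsU : ∑ z : D.U, χ z = q * m + ((q : ℂ) ^ 3 - q) * χ u := by
    have h1 : ∀ z : D.U, χ z = (if z ∈ X.subgroupOf D.U then χ z - χ u else 0) + χ u := by
      intro z
      split_ifs with hz
      · ring
      · rw [zero_add]
        obtain ⟨b, hb⟩ := H.f2 u hu hu1 z z.2 (fun h => hz (Subgroup.mem_subgroupOf.2 h))
        rw [← hb]
        exact hcf _ _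
    have h2 : ∑ z : D.U, (if z ∈ X.subgroupOf D.U then χ z - χ u else 0) =
        ∑ z : X.subgroupOf D.U, (χ ((z : D.U) : G) - χ u) := by
      rw [← Finset.sum_filter]
      exact (Finset.sum_subtype _ (fun z => by simp only [_root_.Finset.mem_filter, _root_.Finset.mem_univ, _root_.true_and]) _)
    rw [Finset.sum_congr rfl fun z _ => h1 z, Finset.sum_add_distrib, h2,
      Finset.sum_sub_distrib, hsX, ← hsX', Finset.sum_const, Finset.sum_const,
      Finset.card_univ, Finset.card_univ, nsmul_eq_mul, nsmul_eq_mul,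
      ← Nat.card_eq_fintype_card, ← Nat.card_eq_fintype_card, hcZ, H.cU]
    push_cast
    ring
  obtain ⟨k, hk⟩ := classInner_isNat hcU (isCharacter_one (G := D.U))
  have hk' : (q : ℂ) ^ 3 * k = q * m + ((q : ℂ) ^ 3 - q) * χ u := by
    rw [← hsU, ← hk, classInner_def, H.cU]
    have hq3 : ((q : ℂ) ^ 3) ≠ 0 := by
      have : (q : ℂ) ≠ 0 := by
        have : q ≠ 0 := by omega
        exact_mod_cast this
      exact pow_ne_zero 3 this
    simp only [Pi.one_apply, map_one, mul_one]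
    push_cast
    rw [← mul_assoc, mul_inv_cancel₀ hq3, one_mul]
  have hq1 : (q : ℂ) - 1 ≠ 0 := by
    intro h
    have : (q : ℂ) = 1 := by linear_combination h
    have : q = 1 := by exact_mod_cast this
    omega
  have hq2 : (q : ℂ) ^ 3 - q ≠ 0 := by
    intro h
    have h1 : (q : ℂ) * (q + 1) * (q - 1) = 0 := by linear_combination h
    rcases mul_eq_zero.1 h1 with h2 | h2
    · have : q * (q + 1) = 0 := by exact_mod_cast h2
      rcases Nat.mul_eq_zero.1 this with h3 | h3 <;> omega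
    · exact hq1 h2
  obtain ⟨a, ha⟩ := ((hint x).exists_int_iff_exists_rat).1 ⟨((q : ℚ) * m - n') / (q - 1), by
    push_cast
    rw [eq_div_iff hq1]
    linear_combination -hsX'⟩
  obtain ⟨b, hb⟩ := ((hint u).exists_int_iff_exists_rat).1
    ⟨((q : ℚ) ^ 3 * k - q * m) / (q ^ 3 - q), by
    push_cast
    rw [eq_div_iff hq2]
    linear_combination -hk'⟩
  refine ⟨n', m, k, a, b, hn, ha, hb, hk, ?_, ?_, hd, ?_, hmn⟩
  · rw [ha] at hsX'
    exact_mod_cast hsX'
  · rw [hb] at hk'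
    exact_mod_cast hk'
  · have h1 := dvd_central hχ hn ha (H.index_dvd hx hx1)
    have h2 : (((q ^ 3 + 1) * (q - 1) : ℕ) : ℤ) = (q ^ 3 + 1) * (q - 1) := by
      rw [Nat.cast_mul, Nat.cast_sub (by omega)]
      push_cast
      ring
    rwa [h2] at h1

end Fus

namespace Split

variable {G : Type u} [Group G] [Fintype G] (D : Split G)

/-- The constituents of the principal series have `U`-fixed vectors. -/
theorem inner_ne_zero [Fintype D.U] (f : D.B →* ℂˣ) (hf : ∀ b : D.B, (b : G) ∈ D.U → f b = 1)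
    {χ : G → ℂ} (hχ : IsIrrCharacter G χ) (h : classInner (D.ps f) χ ≠ 0) :
    classInner (fun u : D.U => χ u) 1 ≠ 0 := by
  classical
  intro h0
  have := Fintype.ofFinite D.B
  have := Fintype.ofFinite (D.U.subgroupOf D.B)
  rw [← noFix_iff_inner] at h0
  have h1 := h0.res D.B D.UB
  have hc : IsCharacter D.B (fun b : D.B => χ b) := isCharacter_comp D.B.subtype (isIrr_isCharacter hχ)
  have hfi := Cfsg.Agent.Characters.Linear.isIrrCharacter_hom f
  have h2 := h1.constituent hc hfi (by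
    rw [D.inner_ps f hχ] at h
    rw [← classInner_conj_symm]
    exact fun h' => h ((map_eq_zero _).1 h'))
  rw [noFix_iff] at h2
  have h3 : ∀ z : D.U.subgroupOf D.B, ((f (z : D.B) : ℂˣ) : ℂ) = 1 := by
    intro z
    rw [hf z (Subgroup.mem_subgroupOf.1 z.2), Units.val_one]
  rw [Finset.sum_congr rfl fun z _ => h3 z, Finset.sum_const, Finset.card_univ, nsmul_eq_mul,
    mul_one, ← Nat.card_eq_fintype_card] at h2
  exact card_ne_zero' h2

end Split

/-- **The degrees of the constituents of the reducible principal series.** -/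
theorem Fus.exact_degrees {G : Type u} [Group G] [Fintype G] {D : Split G} {X : Subgroup G} {q : ℕ}
    (H : Fus D X q) (f : D.B →* ℂˣ) (hf : D.Inv f) :
    ∃ χ χ' : IrrCharacter G, χ ≠ χ' ∧ D.ps f = (χ : G → ℂ) + (χ' : G → ℂ) ∧
      ((χ : G → ℂ) 1 = 1 ∨ (χ' : G → ℂ) 1 = 1 ∨
        ((χ : G → ℂ) 1 = ((q ^ 2 - q + 1 : ℕ) : ℂ) ∧
          (χ' : G → ℂ) 1 = ((q * (q ^ 2 - q + 1) : ℕ) : ℂ))) := by
  classical
  have := Fintype.ofFinite D.U
  have hq := H.hq
  have hqq : q ≤ q ^ 2 := by nlinarith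
  obtain ⟨x, hx, hx1⟩ := H.exists_x
  obtain ⟨u, hu, hu1⟩ := H.exists_u
  obtain ⟨χ, χ', hne, h⟩ := exists_two (D.isCharacter_ps f) (D.norm_ps f hf.2)
  obtain ⟨n, m, k, a, b, h1, h2, h3, h4, h5, h6, h7, h8, -⟩ := H.values χ.2 hx hx1 hu hu1
  obtain ⟨n', m', k', a', b', h1', h2', h3', h4', h5', h6', h7', h8', -⟩ :=
    H.values χ'.2 hx hx1 hu hu1
  have hk : k ≠ 0 := by
    have := D.inner_ne_zero f hf.1 χ.2 (by
      rw [h, classInner_add_left, classInner_irr_self χ.2, classInner_irr_ne χ'.2 χ.2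
        (fun h' => hne (Subtype.ext h'.symm)), add_zero]
      exact one_ne_zero)
    rw [h4] at this
    exact_mod_cast this
  have hk' : k' ≠ 0 := by
    have := D.inner_ne_zero f hf.1 χ'.2 (by
      rw [h, classInner_add_left, classInner_irr_self χ'.2, classInner_irr_ne χ.2 χ'.2
        (fun h' => hne (Subtype.ext h')), zero_add]
      exact one_ne_zero)
    rw [h4'] at this
    exact_mod_cast this
  have hkk : k + k' = 2 := by
    have h9 := D.inner_U_one f hf.1
    rw [h] at h9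
    have h10 := D.inner_add_U (χ : G → ℂ) (χ' : G → ℂ) 1
    rw [h10, h4, h4'] at h9
    exact_mod_cast h9
  have hk1 : k = 1 := by omega
  have hk1' : k' = 1 := by omega
  subst hk1 hk1'
  have hu1' : u ≠ 1 := by
    rintro rfl
    exact hu1 X.one_mem
  have hbb : b + b' = 1 := by
    have h9 := D.ps_U f hf.1 hu hu1'
    rw [h, Pi.add_apply, h3, h3'] at h9
    exact_mod_cast h9
  have hnn : (n : ℤ) + n' = q ^ 3 + 1 := by
    have h9 := D.ps_one f
    rw [h, Pi.add_apply, h1, h1', H.cU] at h9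
    exact_mod_cast h9
  have hq' : (3 : ℤ) ≤ q := by exact_mod_cast hq
  have hq0 : (q : ℤ) ≠ 0 := by omega
  -- the bound on `b`
  have key : ∀ {m : ℕ} {b : ℤ}, (q : ℤ) ^ 3 * ((1 : ℕ) : ℤ) = q * m + (q ^ 3 - q) * b →
      (m : ℤ) = q ^ 2 - (q ^ 2 - 1) * b ∧ b ≤ 1 := by
    intro m b h
    have e1 : (m : ℤ) = q ^ 2 - (q ^ 2 - 1) * b := by
      have : (q : ℤ) * m = q * (q ^ 2 - (q ^ 2 - 1) * b) := by
        push_cast at h
        linear_combination -h
      exact mul_left_cancel₀ hq0 this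
    refine ⟨e1, ?_⟩
    by_contra hcon
    have hb : 2 ≤ b := by omega
    have hm0 : (0 : ℤ) ≤ m := by (clear * -; positivity)
    nlinarith only [hq, hqq, e1, hcon]
  obtain ⟨e1, e2⟩ := key h6
  obtain ⟨e1', e2'⟩ := key h6'
  have hposn : ∀ {χ : IrrCharacter G} {n : ℕ}, (χ : G → ℂ) 1 = n → (0 : ℤ) < n := by
    intro χ n hn
    have : n ≠ 0 := by
      rintro rfl
      exact isIrr_apply_one_ne_zero χ.2 (by rw [hn, Nat.cast_zero])
    omega
  have fin : ∀ {n m : ℕ} {a b : ℤ}, (m : ℤ) = q ^ 2 - (q ^ 2 - 1) * b → b = 1 →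
      (q : ℤ) * m = n + (q - 1) * a → (q : ℤ) ∣ n - m → (n : ℤ) ∣ (q ^ 3 + 1) * (q - 1) * a →
      (0 : ℤ) < n → n ≠ 1 → n = q ^ 2 - q + 1 := by
    intro n m a b hm hb h5 h7 h8 hpos hn1
    subst hb
    have hm1 : (m : ℤ) = 1 := by rw [hm]; ring
    rw [hm1] at h5 h7
    have := arith hq' (n := n) (a := a) (by linear_combination -h5) h7 h8 (by exact_mod_cast hn1) hpos
    zify [hqq]
    exact this
  have fin2 : ∀ {n n' : ℕ}, n = q ^ 2 - q + 1 → (n : ℤ) + n' = q ^ 3 + 1 →
      n' = q * (q ^ 2 - q + 1) := by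
    intro n n' hn hs
    zify [hqq] at hn ⊢
    rw [hn] at hs
    linear_combination hs
  by_cases hn1 : n = 1
  · refine ⟨χ, χ', hne, h, Or.inl ?_⟩
    rw [h1, hn1, Nat.cast_one]
  by_cases hn1' : n' = 1
  · refine ⟨χ, χ', hne, h, Or.inr (Or.inl ?_)⟩
    rw [h1', hn1', Nat.cast_one]
  by_cases hb : b = 1
  · have e := fin e1 hb h5 h7 h8 (hposn h1) hn1
    have e' := fin2 e hnn
    refine ⟨χ, χ', hne, h, Or.inr (Or.inr ⟨by rw [h1, e], by rw [h1', e']⟩)⟩
  · have hb' : b' = 1 := by omega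
    have e := fin e1' hb' h5' h7' h8' (hposn h1') hn1'
    have e' := fin2 e (by rw [add_comm]; exact hnn)
    refine ⟨χ', χ, hne.symm, by rw [h, add_comm], Or.inr (Or.inr ⟨by rw [h1', e], by rw [h1, e']⟩)⟩

end Cfsg.Agent.H664.R1
end

-- part: H664/R1/RankMore
section
set_option linter.all false
open scoped Cfsg.Agent.FastGrp

/-!
# Rank one groups: multiplicities of linear characters of `U` (helper664)

* `Fus.inner_theta` : `⟨χ|_U, θ⟩ = ⟨χ|_U, 1⟩ - χ(u)`, `u ∈ U` outside `X`, `θ ≠ 1` trivial on `X`;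
* `Split.two_le` : a common constituent of `ps f` and `ps g`, `f ≠ g`, has at least two `U`-fixed vectors.
-/

set_option autoImplicit false

open Cfsg
open scoped ComplexConjugate

namespace Cfsg.Agent.H664.R1

open Cfsg.Agent.Characters.Core Cfsg.Agent.OddOrderCharacters.Clifford
  Cfsg.Agent.CharactersDeep.MackeyLinear

universe u

variable {G : Type u} [Group G] [Fintype G]

/-- The multiplicity of a nontrivial linear character. -/
theorem Fus.inner_theta {D : Split G} {X : Subgroup G} {q : ℕ} (H : Fus D X q) [Fintype D.U]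
    {χ : G → ℂ} (hχ : IsClassFunction G χ) {u : G} (hu : u ∈ D.U) (hu1 : u ∉ X) (θ : D.U →* ℂˣ)
    (hθ1 : θ ≠ 1) (hθX : ∀ x : D.U, (x : G) ∈ X → θ x = 1) :
    classInner (fun u : D.U => χ u) (fun u => (θ u : ℂ)) =
      classInner (fun u : D.U => χ u) 1 - χ u := by
  classical
  have h0 := classInner_irr_ne (Cfsg.Agent.Characters.Linear.isIrrCharacter_hom θ)
    (isIrr_one (G := D.U)) (by
      intro h
      apply hθ1
      ext u
      have := congrFun h u
      simpa using this)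
  have hsum : ∑ z : D.U, conj ((θ z : ℂˣ) : ℂ) = 0 := by
    rw [← map_sum]
    rw [classInner_def] at h0
    simp only [Pi.one_apply, map_one, mul_one] at h0
    have h4 := (mul_eq_zero.1 h0).resolve_left (inv_ne_zero card_ne_zero')
    rw [h4, map_zero]
  have key : ∑ z : D.U, χ z * conj ((θ z : ℂˣ) : ℂ) - ∑ z : D.U, χ z =
      - (Nat.card D.U * χ u) := by
    rw [← Finset.sum_sub_distrib]
    have h1 : ∀ z : D.U, χ z * conj ((θ z : ℂˣ) : ℂ) - χ z =
        χ u * (conj ((θ z : ℂˣ) : ℂ) - 1) := by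
      intro z
      by_cases hz : (z : G) ∈ X
      · rw [hθX z hz, Units.val_one, map_one]
        ring
      · obtain ⟨b, hb⟩ := H.f2 u hu hu1 z z.2 hz
        have : χ z = χ u := by
          rw [← hb]
          exact hχ _ _
        rw [this]
        ring
    rw [Finset.sum_congr rfl fun z _ => h1 z, ← Finset.mul_sum, Finset.sum_sub_distrib, hsum,
      Finset.sum_const, Finset.card_univ, nsmul_eq_mul, ← Nat.card_eq_fintype_card]
    ring
  rw [classInner_def, classInner_def]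
  simp only [Pi.one_apply, map_one, mul_one]
  have hU : (Nat.card D.U : ℂ) ≠ 0 := card_ne_zero'
  have h2 : ∑ z : D.U, χ z * conj ((θ z : ℂˣ) : ℂ) = ∑ z : D.U, χ z - Nat.card D.U * χ u := by
    linear_combination key
  rw [h2]
  field_simp

/-- Common constituents of two principal series. -/
theorem Split.two_le (D : Split G) [Fintype D.U] {f g : D.B →* ℂˣ}
    (hf : ∀ b : D.B, (b : G) ∈ D.U → f b = 1) (hg : ∀ b : D.B, (b : G) ∈ D.U → g b = 1)
    (hfg : f ≠ g) {χ : G → ℂ} (hχ : IsIrrCharacter G χ) (h : classInner (D.ps f) χ ≠ 0)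
    (h' : classInner (D.ps g) χ ≠ 0) {k : ℕ} (hk : classInner (fun u : D.U => χ u) 1 = k) :
    2 ≤ k := by
  classical
  have := Fintype.ofFinite D.B
  have := Fintype.ofFinite (D.U.subgroupOf D.B)
  have := finite_irr (G := D.B)
  have := Fintype.ofFinite (IrrCharacter D.B)
  have hU : (Nat.card D.U : ℂ) ≠ 0 := card_ne_zero'
  have hcard : Nat.card (D.U.subgroupOf D.B) = Nat.card D.U :=
    Nat.card_congr (Subgroup.subgroupOfEquivOfLe D.UB).toEquiv
  have hc : IsCharacter D.B (fun b : D.B => χ b) :=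
    isCharacter_comp D.B.subtype (isIrr_isCharacter hχ)
  -- multiplicities
  have hmul : ∀ η : IrrCharacter D.B, ∃ n : ℕ,
      ∑ z : D.U.subgroupOf D.B, (η : D.B → ℂ) z = Nat.card D.U * n := by
    intro η
    obtain ⟨n, hn⟩ := classInner_isNat
      (isCharacter_comp (D.U.subgroupOf D.B).subtype (isIrr_isCharacter η.2))
      (isCharacter_one (G := D.U.subgroupOf D.B))
    refine ⟨n, ?_⟩
    rw [classInner_def] at hn
    simp only [Pi.one_apply, map_one, mul_one] at hn
    rw [hcard] at hn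
    rw [← hn, ← mul_assoc, mul_inv_cancel₀ hU, one_mul]
    rfl
  choose n hn using hmul
  obtain ⟨c, hcη⟩ := exists_nat_comb hc
  have hlin : ∀ l : D.B →* ℂˣ, (∀ b : D.B, (b : G) ∈ D.U → l b = 1) →
      classInner (D.ps l) χ ≠ 0 →
      ∃ η : IrrCharacter D.B, (η : D.B → ℂ) = (fun b => (l b : ℂ)) ∧ c η ≠ 0 ∧ n η = 1 := by
    intro l hl h
    refine ⟨⟨_, Cfsg.Agent.Characters.Linear.isIrrCharacter_hom l⟩, rfl, ?_, ?_⟩
    · intro h0
      apply h
      rw [D.inner_ps l hχ, ← classInner_conj_symm]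
      have h1 := classInner_sum_nsmul_irr c
        ⟨_, Cfsg.Agent.Characters.Linear.isIrrCharacter_hom l⟩
      rw [← hcη] at h1
      rw [h1, h0, Nat.cast_zero, map_zero]
    · have h1 := hn ⟨_, Cfsg.Agent.Characters.Linear.isIrrCharacter_hom l⟩
      have h2 : ∀ z : D.U.subgroupOf D.B, ((l (z : D.B) : ℂˣ) : ℂ) = 1 := by
        intro z
        rw [hl z (Subgroup.mem_subgroupOf.1 z.2), Units.val_one]
      rw [Finset.sum_congr rfl fun z _ => h2 z, Finset.sum_const, Finset.card_univ, nsmul_eq_mul,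
        mul_one, ← Nat.card_eq_fintype_card, hcard] at h1
      have h3 : (1 : ℂ) = (n ⟨_, Cfsg.Agent.Characters.Linear.isIrrCharacter_hom l⟩ : ℂ) :=
        mul_left_cancel₀ hU (by rw [mul_one]; exact h1)
      exact_mod_cast h3.symm
  obtain ⟨η, e1, hcf, hnf⟩ := hlin f hf h
  obtain ⟨η', e2, hcg, hng⟩ := hlin g hg h'
  have hne : η ≠ η' := by
    intro h0
    apply hfg
    have h1 : (fun b => (f b : ℂ)) = fun b => (g b : ℂ) := by rw [← e1, ← e2, h0]
    ext b
    exact congrFun h1 b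
  -- the total
  have htot : k = ∑ η : IrrCharacter D.B, c η * n η := by
    have h1 : (Nat.card D.U : ℂ) * k = ∑ z : D.U.subgroupOf D.B, χ ((z : D.B) : G) := by
      rw [← hk, classInner_def, ← mul_assoc, mul_inv_cancel₀ hU, one_mul]
      refine (Fintype.sum_equiv (Subgroup.subgroupOfEquivOfLe D.UB).toEquiv _ _ fun z => ?_).symm
      rw [Pi.one_apply, map_one, mul_one]
      rfl
    have h2 : ∀ z : D.U.subgroupOf D.B, χ ((z : D.B) : G) =
        ∑ η : IrrCharacter D.B, (c η : ℂ) * (η : D.B → ℂ) z := by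
      intro z
      have := congrFun hcη (z : D.B)
      rw [Finset.sum_apply] at this
      rw [this]
      refine Finset.sum_congr rfl fun η _ => ?_
      rw [Pi.smul_apply, nsmul_eq_mul]
    rw [Finset.sum_congr rfl fun z _ => h2 z, Finset.sum_comm] at h1
    have h3 : ∀ η : IrrCharacter D.B, ∑ z : D.U.subgroupOf D.B, (c η : ℂ) * (η : D.B → ℂ) z =
        Nat.card D.U * ((c η * n η : ℕ) : ℂ) := by
      intro η
      rw [← Finset.mul_sum, hn]
      push_cast
      ring
    rw [Finset.sum_congr rfl fun η _ => h3 η, ← Finset.mul_sum] at h1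
    have h4 := mul_left_cancel₀ hU h1
    exact_mod_cast h4
  rw [htot]
  have h5 : ∑ η ∈ ({η, η'} : Finset (IrrCharacter D.B)), c η * n η ≤
      ∑ η : IrrCharacter D.B, c η * n η :=
    Finset.sum_le_sum_of_subset (Finset.subset_univ _)
  rw [Finset.sum_pair hne, hnf, hng, mul_one, mul_one] at h5
  have : 1 ≤ c η := Nat.one_le_iff_ne_zero.2 hcf
  have : 1 ≤ c η' := Nat.one_le_iff_ne_zero.2 hcg
  omega

/-- **The constituents of the reducible principal series.** -/
theorem Fus.pair {D : Split G} {X : Subgroup G} {q : ℕ} (H : Fus D X q) [Fintype D.U] {u : G}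
    (hu : u ∈ D.U) (hu1 : u ∉ X) (f : D.B →* ℂˣ) (hf : D.Inv f) :
    ∃ χ χ' : IrrCharacter G, χ ≠ χ' ∧ D.ps f = (χ : G → ℂ) + (χ' : G → ℂ) ∧
      (χ : G → ℂ) u = 1 ∧ (χ' : G → ℂ) u = 0 ∧
      classInner (fun u : D.U => (χ : G → ℂ) u) 1 = 1 ∧
      classInner (fun u : D.U => (χ' : G → ℂ) u) 1 = 1 ∧
      (((χ : G → ℂ) 1 = 1 ∧ (χ' : G → ℂ) 1 = ((q ^ 3 : ℕ) : ℂ)) ∨
        ((χ : G → ℂ) 1 = ((q ^ 2 - q + 1 : ℕ) : ℂ) ∧
          (χ' : G → ℂ) 1 = ((q * (q ^ 2 - q + 1) : ℕ) : ℂ))) := by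
  classical
  have hq := H.hq
  have hqq : q ≤ q ^ 2 := by nlinarith only []
  obtain ⟨x, hx, hx1⟩ := H.exists_x
  obtain ⟨χ, χ', hne, h⟩ := exists_two (D.isCharacter_ps f) (D.norm_ps f hf.2)
  obtain ⟨n, m, k, a, b, h1, h2, h3, h4, h5, h6, h7, h8, h9⟩ := H.values χ.2 hx hx1 hu hu1
  obtain ⟨n', m', k', a', b', h1', h2', h3', h4', h5', h6', h7', h8', h9'⟩ :=
    H.values χ'.2 hx hx1 hu hu1
  have hk : k ≠ 0 := by
    have := D.inner_ne_zero f hf.1 χ.2 (by
      rw [h, classInner_add_left, classInner_irr_self χ.2, classInner_irr_ne χ'.2 χ.2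
        (fun h' => hne (Subtype.ext h'.symm)), add_zero]
      exact one_ne_zero)
    rw [h4] at this
    exact_mod_cast this
  have hk' : k' ≠ 0 := by
    have := D.inner_ne_zero f hf.1 χ'.2 (by
      rw [h, classInner_add_left, classInner_irr_self χ'.2, classInner_irr_ne χ.2 χ'.2
        (fun h' => hne (Subtype.ext h')), zero_add]
      exact one_ne_zero)
    rw [h4'] at this
    exact_mod_cast this
  have hkk : k + k' = 2 := by
    have h9 := D.inner_U_one f hf.1
    rw [h] at h9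
    have h10 := D.inner_add_U (χ : G → ℂ) (χ' : G → ℂ) 1
    rw [h10, h4, h4'] at h9
    exact_mod_cast h9
  have hk1 : k = 1 := by omega
  have hk1' : k' = 1 := by omega
  subst hk1 hk1'
  have hu1' : u ≠ 1 := by
    rintro rfl
    exact hu1 X.one_mem
  have hbb : b + b' = 1 := by
    have h9 := D.ps_U f hf.1 hu hu1'
    rw [h, Pi.add_apply, h3, h3'] at h9
    exact_mod_cast h9
  have hnn : (n : ℤ) + n' = q ^ 3 + 1 := by
    have h9 := D.ps_one f
    rw [h, Pi.add_apply, h1, h1', H.cU] at h9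
    exact_mod_cast h9
  have hq' : (3 : ℤ) ≤ q := by exact_mod_cast hq
  have hq0 : (q : ℤ) ≠ 0 := by omega
  have key : ∀ {m : ℕ} {b : ℤ}, (q : ℤ) ^ 3 * ((1 : ℕ) : ℤ) = q * m + (q ^ 3 - q) * b →
      (m : ℤ) = q ^ 2 - (q ^ 2 - 1) * b ∧ b ≤ 1 := by
    intro m b h
    have e1 : (m : ℤ) = q ^ 2 - (q ^ 2 - 1) * b := by
      have : (q : ℤ) * m = q * (q ^ 2 - (q ^ 2 - 1) * b) := by
        push_cast at h
        linear_combination -h
      exact mul_left_cancel₀ hq0 this
    refine ⟨e1, ?_⟩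
    by_contra hcon
    have hb : 2 ≤ b := by omega
    have hm0 : (0 : ℤ) ≤ m := by (clear * -; positivity)
    nlinarith only [hq, hqq, e1, hcon]
  obtain ⟨e1, e2⟩ := key h6
  obtain ⟨e1', e2'⟩ := key h6'
  have hposn : ∀ {χ : IrrCharacter G} {n : ℕ}, (χ : G → ℂ) 1 = n → (0 : ℤ) < n := by
    intro χ n hn
    have : n ≠ 0 := by
      rintro rfl
      exact isIrr_apply_one_ne_zero χ.2 (by rw [hn, Nat.cast_zero])
    omega
  -- the degrees
  have fin : ∀ {n n' m : ℕ} {a b : ℤ}, (m : ℤ) = q ^ 2 - (q ^ 2 - 1) * b → b = 1 →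
      (q : ℤ) * m = n + (q - 1) * a → (q : ℤ) ∣ n - m → (n : ℤ) ∣ (q ^ 3 + 1) * (q - 1) * a →
      (0 : ℤ) < n → (n : ℤ) + n' = q ^ 3 + 1 → (n = 1 ∧ n' = q ^ 3) ∨
        (n = q ^ 2 - q + 1 ∧ n' = q * (q ^ 2 - q + 1)) := by
    intro n n' m a b hm hb h5 h7 h8 hpos hs
    subst hb
    have hm1 : (m : ℤ) = 1 := by rw [hm]; ring
    rw [hm1] at h5 h7
    by_cases hn1 : n = 1
    · subst hn1
      left
      refine ⟨rfl, ?_⟩
      zify
      push_cast at hs
      linear_combination hs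
    · right
      have := arith hq' (n := n) (a := a) (by linear_combination -h5) h7 h8
        (by exact_mod_cast hn1) hpos
      zify [hqq]
      refine ⟨this, ?_⟩
      rw [this] at hs
      linear_combination hs
  by_cases hb : b = 1
  · have hb' : b' = 0 := by omega
    refine ⟨χ, χ', hne, h, by rw [h3, hb, Int.cast_one], by rw [h3', hb', Int.cast_zero],
      by rw [h4, Nat.cast_one], by rw [h4', Nat.cast_one], ?_⟩
    rcases fin e1 hb h5 h7 h8 (hposn h1) hnn with ⟨f1, f2⟩ | ⟨f1, f2⟩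
    · exact Or.inl ⟨by rw [h1, f1, Nat.cast_one], by rw [h1', f2]⟩
    · exact Or.inr ⟨by rw [h1, f1], by rw [h1', f2]⟩
  · have hb' : b' = 1 := by omega
    have hb0 : b = 0 := by omega
    refine ⟨χ', χ, hne.symm, by rw [h, add_comm], by rw [h3', hb', Int.cast_one],
      by rw [h3, hb0, Int.cast_zero], by rw [h4', Nat.cast_one], by rw [h4, Nat.cast_one], ?_⟩
    rcases fin e1' hb' h5' h7' h8' (hposn h1') (by rw [add_comm]; exact hnn) with
      ⟨f1, f2⟩ | ⟨f1, f2⟩
    · exact Or.inl ⟨by rw [h1', f1, Nat.cast_one], by rw [h1, f2]⟩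
    · exact Or.inr ⟨by rw [h1', f1], by rw [h1, f2]⟩

end Cfsg.Agent.H664.R1
end

-- part: H664/R1/Cusp
section
set_option linter.all false
open scoped Cfsg.Agent.FastGrp

/-!
# Rank one groups: cuspidal characters containing a given linear character of `U` (helper664)

* `Split.exists_cusp` : a cuspidal character whose restriction to `U` contains `θ`;
* `sum_center_aut` : the sum over the centre of a Sylow subgroup is invariant under automorphisms.
-/

set_option autoImplicit false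

open Cfsg
open scoped ComplexConjugate Pointwise

namespace Cfsg.Agent.H664.R1

open Cfsg.Agent.Characters.Core Cfsg.Agent.OddOrderCharacters.Clifford
  Cfsg.Agent.CharactersDeep.MackeyLinear

universe u

variable {G : Type u} [Group G]

namespace Split

variable (D : Split G)

/-- The number of linear characters of `B` trivial on `U`. -/
theorem card_lin_le [Finite G] :
    Finite {f : D.B →* ℂˣ // ∀ b : D.B, (b : G) ∈ D.U → f b = 1} ∧
      Nat.card {f : D.B →* ℂˣ // ∀ b : D.B, (b : G) ∈ D.U → f b = 1} ≤ Nat.card D.T := by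
  classical
  let _ : CommGroup D.T :=
    { (inferInstance : Group D.T) with mul_comm := fun a b => Subtype.ext (D.comm a a.2 b b.2) }
  let res : {f : D.B →* ℂˣ // ∀ b : D.B, (b : G) ∈ D.U → f b = 1} → (D.T →* ℂˣ) :=
    fun f => f.1.comp (Subgroup.inclusion D.TB)
  have hinj : Function.Injective res := by
    rintro ⟨f, hf⟩ ⟨g, hg⟩ h
    apply Subtype.ext
    refine MonoidHom.ext fun b => ?_
    obtain ⟨u, hu, t, ht, hb⟩ := D.dec b b.2
    have h2 : b = ⟨u, D.UB hu⟩ * Subgroup.inclusion D.TB ⟨t, ht⟩ := Subtype.ext hb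
    show f b = g b
    rw [h2, map_mul, map_mul, hf ⟨u, D.UB hu⟩ hu, hg ⟨u, D.UB hu⟩ hu]
    exact congrArg _ (DFunLike.congr_fun h ⟨t, ht⟩)
  have hfin : Finite (D.T →* ℂˣ) := OddOrderCharacters.PrimeTI.finite_hom_units
  refine ⟨Finite.of_injective res hinj, (Nat.card_le_card_of_injective res hinj).trans ?_⟩
  rw [CommGroup.card_monoidHom_of_hasEnoughRootsOfUnity]

/-- **A cuspidal character containing `θ`.** -/
theorem exists_cusp [Fintype G] [Fintype D.U] (θ : D.U →* ℂˣ) (hθ1 : θ ≠ 1)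
    (hθ : ∀ t, t ∈ D.T → t ≠ 1 → ∃ (v : D.U) (h : t⁻¹ * (v : G) * t ∈ D.U), θ v ≠ θ ⟨_, h⟩) :
    ∃ χ : IrrCharacter G, classInner (fun u : D.U => (χ : G → ℂ) u) (fun u => (θ u : ℂ)) ≠ 0 ∧
      classInner (fun u : D.U => (χ : G → ℂ) u) 1 = 0 := by
  classical
  have := finite_irr (G := G)
  have := Fintype.ofFinite (IrrCharacter G)
  by_contra hcon
  push Not at hcon
  obtain ⟨c, hc⟩ := exists_nat_comb (D.isCharacter_gg θ)
  have hcψ : ∀ ψ : IrrCharacter G, classInner (D.gg θ) (ψ : G → ℂ) = c ψ := by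
    intro ψ
    rw [hc, classInner_sum_nsmul_irr]
  have hcθ : ∀ ψ : IrrCharacter G,
      classInner (fun u : D.U => (ψ : G → ℂ) u) (fun u => (θ u : ℂ)) = c ψ := by
    intro ψ
    rw [← Complex.conj_natCast, ← hcψ, D.inner_gg θ ψ.2, classInner_conj_symm]
  have hnorm : ∑ ψ : IrrCharacter G, c ψ ^ 2 = Nat.card D.T + 1 := by
    have e := D.norm_gg θ hθ
    rw [hc, norm_eq_sum] at e
    exact_mod_cast e
  -- the multiplicities in the principal series
  have hps : ∀ f : D.B →* ℂˣ, (∀ b : D.B, (b : G) ∈ D.U → f b = 1) →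
      ∃ d : IrrCharacter G → ℕ, (∀ ψ : IrrCharacter G, classInner (D.ps f) (ψ : G → ℂ) = d ψ) ∧
        ∑ ψ : IrrCharacter G, d ψ * c ψ = 1 := by
    intro f hf
    obtain ⟨d, hd⟩ := exists_nat_comb (D.isCharacter_ps f)
    refine ⟨d, fun ψ => by rw [hd, classInner_sum_nsmul_irr], ?_⟩
    have e := D.inner_U f hf θ hθ1
    have e1 : (fun u : D.U => D.ps f u) =
        ∑ ψ : IrrCharacter G, (d ψ : ℂ) • (fun u : D.U => (ψ : G → ℂ) u) := by
      funext u
      rw [hd, Finset.sum_apply, Finset.sum_apply]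
      refine Finset.sum_congr rfl fun ψ _ => ?_
      rw [Pi.smul_apply, Pi.smul_apply, nsmul_eq_mul, smul_eq_mul]
    rw [e1, classInner_sum_left] at e
    have e2 : ∀ ψ : IrrCharacter G, classInner ((d ψ : ℂ) • (fun u : D.U => (ψ : G → ℂ) u))
        (fun u => (θ u : ℂ)) = ((d ψ * c ψ : ℕ) : ℂ) := by
      intro ψ
      rw [classInner_smul_left, hcθ]
      push_cast
      ring
    rw [Finset.sum_congr rfl fun ψ _ => e2 ψ] at e
    exact_mod_cast e
  -- the map to the linear characters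
  have hM : ∀ ψ : {ψ : IrrCharacter G // c ψ ≠ 0},
      ∃ f : {f : D.B →* ℂˣ // ∀ b : D.B, (b : G) ∈ D.U → f b = 1},
        classInner (D.ps f.1) (ψ.1 : G → ℂ) ≠ 0 := by
    rintro ⟨ψ, hψ⟩
    obtain ⟨f, hf, h⟩ := D.exists_ps ψ.2 (hcon ψ (by rw [hcθ]; exact_mod_cast hψ))
    exact ⟨⟨f, hf⟩, h⟩
  choose M hM using hM
  have hinj : Function.Injective M := by
    rintro ⟨ψ, hψ⟩ ⟨ψ', hψ'⟩ h
    by_contra hne
    have hne' : ψ ≠ ψ' := fun h => hne (Subtype.ext h)
    obtain ⟨d, hd, hs⟩ := hps (M ⟨ψ, hψ⟩).1 (M ⟨ψ, hψ⟩).2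
    have h1 := hM ⟨ψ, hψ⟩
    have h2 := hM ⟨ψ', hψ'⟩
    rw [← h] at h2
    rw [hd] at h1 h2
    have h1' : d ψ ≠ 0 := by exact_mod_cast h1
    have h2' : d ψ' ≠ 0 := by exact_mod_cast h2
    have h3 : ∑ ψ'' ∈ ({ψ, ψ'} : Finset (IrrCharacter G)), d ψ'' * c ψ'' ≤ 1 := by
      rw [← hs]
      exact Finset.sum_le_sum_of_subset (Finset.subset_univ _)
    rw [Finset.sum_pair hne'] at h3
    have h4 : 1 ≤ d ψ * c ψ := Nat.one_le_iff_ne_zero.2 (Nat.mul_ne_zero h1' hψ)
    have h5 : 1 ≤ d ψ' * c ψ' := Nat.one_le_iff_ne_zero.2 (Nat.mul_ne_zero h2' hψ')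
    omega
  have hc1 : ∀ ψ : IrrCharacter G, c ψ ≤ 1 := by
    intro ψ
    by_cases h0 : c ψ = 0
    · omega
    obtain ⟨d, hd, hs⟩ := hps (M ⟨ψ, h0⟩).1 (M ⟨ψ, h0⟩).2
    have h1 := hM ⟨ψ, h0⟩
    rw [hd] at h1
    have h1' : d ψ ≠ 0 := by exact_mod_cast h1
    have h3 : d ψ * c ψ ≤ 1 := by
      rw [← hs]
      exact Finset.single_le_sum (f := fun ψ => d ψ * c ψ) (fun _ _ => Nat.zero_le _)
        (Finset.mem_univ ψ)
    have h4 : 1 * c ψ ≤ d ψ * c ψ := Nat.mul_le_mul_right _ (Nat.one_le_iff_ne_zero.2 h1')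
    omega
  obtain ⟨hfin, hle⟩ := D.card_lin_le
  have h1 := Nat.card_le_card_of_injective M hinj
  have h2 : Nat.card {ψ : IrrCharacter G // c ψ ≠ 0} = ∑ ψ : IrrCharacter G, c ψ ^ 2 := by
    rw [Nat.card_eq_fintype_card, Fintype.card_subtype, Finset.card_eq_sum_ones,
      Finset.sum_filter]
    refine Finset.sum_congr rfl fun ψ _ => ?_
    have := hc1 ψ
    split_ifs with h
    · have : c ψ = 1 := by omega
      rw [this]; rfl
    · push Not at h
      rw [h]; rfl
  rw [h2, hnorm] at h1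
  omega

end Split

/-- The sum over the centre of a Sylow subgroup is invariant under automorphisms. -/
theorem sum_center_aut [Finite G] {p : ℕ} [Fact p.Prime] (P : Sylow p G) (X : Subgroup G)
    (hX : ∀ x, x ∈ X ↔ x ∈ P ∧ ∀ z ∈ P, z * x = x * z) [Fintype X] {α : G → ℂ}
    (hα : IsClassFunction G α) (σ : MulAut G) : ∑ x : X, α (σ x) = ∑ x : X, α x := by
  classical
  let P' : Sylow p G := P.mapSurjective (f := σ.toMonoidHom) σ.surjective
  obtain ⟨g, hg⟩ := MulAction.exists_smul_eq G P' P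
  have hcoe : (P : Subgroup G) = MulAut.conj g • ((P : Subgroup G).map σ.toMonoidHom) := by
    have h1 := congrArg (fun Q : Sylow p G => (Q : Subgroup G)) hg
    exact h1.symm
  have hmem : ∀ z, z ∈ P → ∃ w ∈ P, z = g * σ w * g⁻¹ := by
    intro z hz
    have hz' : z ∈ (P : Subgroup G) := hz
    rw [hcoe] at hz'
    obtain ⟨y, ⟨w, hw, rfl⟩, h⟩ := hz'
    exact ⟨w, hw, h.symm⟩
  have hmem' : ∀ w, w ∈ P → g * σ w * g⁻¹ ∈ P := by
    intro w hw
    show g * σ w * g⁻¹ ∈ (P : Subgroup G)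
    rw [hcoe]
    exact ⟨σ w, ⟨w, hw, rfl⟩, rfl⟩
  have hmap : ∀ x : X, g * σ x * g⁻¹ ∈ X := by
    intro x
    obtain ⟨hx1, hx2⟩ := (hX x).1 x.2
    refine (hX _).2 ⟨hmem' _ hx1, ?_⟩
    intro z hz
    obtain ⟨w, hw, rfl⟩ := hmem z hz
    have h1 := hx2 w hw
    have h2 : g * σ w * g⁻¹ * (g * σ x * g⁻¹) = g * σ (w * x) * g⁻¹ := by
      rw [map_mul]; group
    have h3 : g * σ x * g⁻¹ * (g * σ w * g⁻¹) = g * σ (x * w) * g⁻¹ := by
      rw [map_mul]; group
    rw [h2, h3, h1]
  have hbij : Function.Bijective (fun x : X => (⟨g * σ x * g⁻¹, hmap x⟩ : X)) := by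
    rw [← Finite.injective_iff_bijective]
    intro x y h
    have h1 : g * σ x * g⁻¹ = g * σ y * g⁻¹ := congrArg Subtype.val h
    have h2 : σ (x : G) = σ (y : G) := by
      have := congrArg (fun a => g⁻¹ * a * g) h1
      simpa [mul_assoc] using this
    exact Subtype.ext (σ.injective h2)
  rw [← Function.Bijective.sum_comp hbij (fun x : X => α x)]
  refine Finset.sum_congr rfl fun x _ => ?_
  exact (hα (σ x) g).symm

end Cfsg.Agent.H664.R1
end
end
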