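import Cfsg.Agent.H664.R1.Count
import Cfsg.Agent.Characters.GaloisBasic
import Cfsg.Agent.H681.DegBasic
set_option linter.all false

/-!
# Characters without fixed vectors under a root subgroup (helper664)

`NoFix X χ` : the sum of the values of `χ` on `X` vanishes.

* `NoFix.of_special` : from the special character of `Count`;
* `NoFix.constituent` : constituents;
* `NoFix.dvd_degree` : `|X| - 1` divides the degree if `X` is fused;
* `NoFix.prime_dvd` : `p` divides the degree if `X` is contained in the kernels of the linear characters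
  of the `p`-group `U ≥ X`.
-/

set_option autoImplicit false

open Cfsg
open scoped ComplexConjugate

namespace Cfsg.Agent.H664.R1

open Cfsg.Agent.Characters.Core Cfsg.Agent.OddOrderCharacters.Clifford
  Cfsg.Agent.CharactersDeep.MackeyLinear

universe u

variable {G : Type u} [Group G]

/-- No fixed vectors under `X`. -/
def NoFix (X : Subgroup G) (χ : G → ℂ) : Prop := ∀ _ : Fintype X, ∑ x : X, χ x = 0

theorem noFix_iff {X : Subgroup G} [Fintype X] {χ : G → ℂ} :
    NoFix X χ ↔ ∑ x : X, χ x = 0 := by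
  constructor
  · intro h
    exact h _
  · intro h inst
    rw [Subsingleton.elim inst]
    exact h

theorem noFix_iff_inner {X : Subgroup G} [Fintype X] {χ : G → ℂ} :
    NoFix X χ ↔ classInner (fun x : X => χ x) 1 = 0 := by
  rw [noFix_iff, classInner_def]
  simp only [Pi.one_apply, map_one, mul_one]
  constructor
  · intro h
    rw [h, mul_zero]
  · intro h
    exact (mul_eq_zero.1 h).resolve_left (inv_ne_zero card_ne_zero')

/-- Constituents of characters without fixed vectors. -/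
theorem NoFix.constituent [Fintype G] {X : Subgroup G} {χ : G → ℂ} (h : NoFix X χ)
    (hχ : IsCharacter G χ) {ψ : G → ℂ} (hψ : IsIrrCharacter G ψ) (h1 : classInner χ ψ ≠ 0) :
    NoFix X ψ := by
  classical
  have := Fintype.ofFinite X
  have := finite_irr (G := G)
  have := Fintype.ofFinite (IrrCharacter G)
  rw [noFix_iff_inner] at h ⊢
  obtain ⟨m, rfl⟩ := exists_nat_comb hχ
  have hm : m ⟨ψ, hψ⟩ ≠ 0 := by
    have := classInner_sum_nsmul_irr m ⟨ψ, hψ⟩
    rw [this] at h1
    exact_mod_cast h1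
  have hnat : ∀ η : IrrCharacter G, ∃ n : ℕ, classInner (fun x : X => (η : G → ℂ) x) 1 = n :=
    fun η => classInner_isNat (isCharacter_comp X.subtype (isIrr_isCharacter η.2)) isCharacter_one
  choose n hn using hnat
  have h2 : classInner (fun x : X => (∑ η : IrrCharacter G, m η • (η : G → ℂ)) x) 1 =
      ((∑ η : IrrCharacter G, m η * n η : ℕ) : ℂ) := by
    have h3 : (fun x : X => (∑ η : IrrCharacter G, m η • (η : G → ℂ)) x) =
        ∑ η : IrrCharacter G, (m η : ℂ) • (fun x : X => (η : G → ℂ) x) := by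
      funext x
      rw [Finset.sum_apply, Finset.sum_apply]
      refine Finset.sum_congr rfl fun c _ => ?_
      rw [Pi.smul_apply, Pi.smul_apply, nsmul_eq_mul, smul_eq_mul]
    rw [h3, classInner_sum_left]
    push_cast
    refine Finset.sum_congr rfl fun η _ => ?_
    rw [classInner_smul_left, hn]
  rw [h2] at h
  have h4 : ∑ η : IrrCharacter G, m η * n η = 0 := by exact_mod_cast h
  have h5 := (Finset.sum_eq_zero_iff.1 h4) ⟨ψ, hψ⟩ (Finset.mem_univ _)
  have h6 : n ⟨ψ, hψ⟩ = 0 := (Nat.mul_eq_zero.1 h5).resolve_left hm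
  have h7 := hn ⟨ψ, hψ⟩
  rw [h6, Nat.cast_zero] at h7
  exact h7

/-- Restriction to a subgroup containing `X`. -/
theorem NoFix.res {X : Subgroup G} [Finite X] {χ : G → ℂ} (h : NoFix X χ) (N : Subgroup G)
    (hX : X ≤ N) : NoFix (X.subgroupOf N) (fun n : N => χ n) := by
  classical
  have := Fintype.ofFinite X
  have : Finite (X.subgroupOf N) := Finite.of_equiv X (Subgroup.subgroupOfEquivOfLe hX).symm.toEquiv
  have := Fintype.ofFinite (X.subgroupOf N)
  rw [noFix_iff] at h ⊢
  rw [← h]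
  exact Fintype.sum_equiv (Subgroup.subgroupOfEquivOfLe hX).toEquiv _ _ fun _ => rfl

/-- Inheritance by constituents of the restriction to a subgroup. -/
theorem NoFix.exists_res [Fintype G] {X : Subgroup G} {χ : G → ℂ} (h : NoFix X χ)
    (hχ : IsIrrCharacter G χ) (N : Subgroup G) (hX : X ≤ N) :
    ∃ η : IrrCharacter N, NoFix (X.subgroupOf N) (η : N → ℂ) := by
  classical
  have := Fintype.ofFinite N
  have := finite_irr (G := N)
  have := Fintype.ofFinite (IrrCharacter N)
  have hc : IsCharacter N (fun n : N => χ n) := isCharacter_comp N.subtype (isIrr_isCharacter hχ)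
  obtain ⟨m, hm⟩ := exists_nat_comb hc
  have h0 : ∃ η : IrrCharacter N, m η ≠ 0 := by
    by_contra hcon
    push Not at hcon
    have h1 : (fun n : N => χ n) = 0 := by
      rw [hm]
      exact Finset.sum_eq_zero fun η _ => by rw [hcon η, zero_smul]
    have h2 := congrFun h1 1
    exact isIrr_apply_one_ne_zero hχ h2
  obtain ⟨η, hη⟩ := h0
  refine ⟨η, (h.res N hX).constituent hc η.2 ?_⟩
  rw [hm, classInner_sum_nsmul_irr]
  exact_mod_cast hη

/-- `|X| - 1` divides the degree. -/
theorem NoFix.dvd_degree [Finite G] {X : Subgroup G} {χ : G → ℂ} (h : NoFix X χ)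
    (hχ : IsIrrCharacter G χ) (hX : ∀ x ∈ X, x ≠ 1 → ∀ y ∈ X, y ≠ 1 → ∃ g : G, g * x * g⁻¹ = y)
    {n : ℕ} (hn : χ 1 = n) : Nat.card X - 1 ∣ n := by
  classical
  have := Fintype.ofFinite X
  rw [noFix_iff] at h
  have hn0 : (n : ℂ) ≠ 0 := by
    rw [← hn]
    exact isIrr_apply_one_ne_zero hχ
  obtain ⟨z, hz⟩ : ∃ z : X, z ≠ 1 := by
    by_contra hcon
    push Not at hcon
    rw [Finset.sum_eq_single (1 : X)] at h
    · rw [Subgroup.coe_one, hn] at h
      exact hn0 h
    · intro b _ hb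
      exact absurd (hcon b) hb
    · intro hb
      exact absurd (Finset.mem_univ _) hb
  have h1 : ∀ x : X, χ x = (if x = 1 then (n : ℂ) - χ z else 0) + χ z := by
    intro x
    split_ifs with hx
    · rw [hx, Subgroup.coe_one, hn]; ring
    · rw [zero_add]
      obtain ⟨g, hg⟩ := hX z z.2 (fun h' => hz (Subtype.ext h')) x x.2
        (fun h' => hx (Subtype.ext h'))
      rw [← hg]
      exact isIrr_isClassFunction hχ _ _
  rw [Finset.sum_congr rfl fun x _ => h1 x, Finset.sum_add_distrib,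
    Finset.sum_ite_eq' Finset.univ, if_pos (Finset.mem_univ _), Finset.sum_const,
    Finset.card_univ, nsmul_eq_mul, ← Nat.card_eq_fintype_card] at h
  have hcard : 1 ≤ Nat.card X - 1 := by
    have : Nontrivial X := ⟨⟨z, 1, hz⟩⟩
    have := Finite.one_lt_card (α := X)
    omega
  set k := Nat.card X - 1 with hk
  have hk1 : Nat.card X = k + 1 := by omega
  rw [hk1] at h
  push_cast at h
  have h2 : (n : ℂ) = -(k * χ z) := by linear_combination h
  have h3 : IsIntegral ℤ (χ z) :=
    Characters.GaloisBasic.isIntegral_apply (isIrr_isCharacter hχ) _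
  have hk0 : (k : ℂ) ≠ 0 := by
    have : k ≠ 0 := by omega
    exact_mod_cast this
  obtain ⟨e, he⟩ := (h3.exists_int_iff_exists_rat).1 ⟨-(n : ℚ) / k, by
    push_cast
    field_simp
    linear_combination h2⟩
  rw [he] at h2
  have h4 : (n : ℤ) = -(k * e) := by exact_mod_cast h2
  have h5 : (k : ℤ) ∣ n := ⟨-e, by rw [h4]; ring⟩
  exact_mod_cast h5

/-- `p` divides the degree. -/
theorem NoFix.prime_dvd [Finite G] {X U : Subgroup G} {χ : G → ℂ} (h : NoFix X χ)
    (hχ : IsIrrCharacter G χ) (hXU : X ≤ U) {p : ℕ} [Fact p.Prime] (hU : IsPGroup p U)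
    (hlin : ∀ f : U →* ℂˣ, ∀ x : U, (x : G) ∈ X → f x = 1) {n : ℕ} (hn : χ 1 = n) : p ∣ n := by
  classical
  have := Fintype.ofFinite G
  have := Fintype.ofFinite U
  have := Fintype.ofFinite (X.subgroupOf U)
  have := finite_irr (G := U)
  have := Fintype.ofFinite (IrrCharacter U)
  have hc : IsCharacter U (fun n : U => χ n) := isCharacter_comp U.subtype (isIrr_isCharacter hχ)
  obtain ⟨m, hm⟩ := exists_nat_comb hc
  have hdeg : ∀ ψ : IrrCharacter U, ∃ d : ℕ, 0 < d ∧ (ψ : U → ℂ) 1 = d := fun ψ =>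
    isIrr_apply_one ψ.2
  choose d hd0 hd using hdeg
  have h1 : n = ∑ ψ : IrrCharacter U, m ψ * d ψ := by
    have h2 := congrFun hm 1
    rw [Finset.sum_apply] at h2
    have h3 : ∀ c : IrrCharacter U, (m c • (c : U → ℂ)) 1 = ((m c * d c : ℕ) : ℂ) := by
      intro c
      rw [Pi.smul_apply, nsmul_eq_mul, hd]
      push_cast
      ring
    rw [Finset.sum_congr rfl fun c _ => h3 c, Subgroup.coe_one, hn] at h2
    exact_mod_cast h2
  rw [h1]
  refine Finset.dvd_sum fun ψ _ => ?_
  by_cases hmψ : m ψ = 0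
  · rw [hmψ, zero_mul]
    exact dvd_zero _
  apply Dvd.dvd.mul_left
  have hnf : NoFix (X.subgroupOf U) (ψ : U → ℂ) := by
    refine (h.res U hXU).constituent hc ψ.2 ?_
    rw [hm, classInner_sum_nsmul_irr]
    exact_mod_cast hmψ
  have hdvd : d ψ ∣ Nat.card U :=
    Cfsg.Agent.H681.DegBasic.dvd_card (Cfsg.Agent.H681.DegBasic.mem_charDegrees.2 ⟨_, ψ.2, hd ψ⟩)
  obtain ⟨k, hk⟩ := (IsPGroup.iff_card (p := p)).1 hU
  rw [hk] at hdvd
  obtain ⟨j, -, hj⟩ := (Nat.dvd_prime_pow (Fact.out : p.Prime)).1 hdvd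
  rcases Nat.eq_zero_or_pos j with rfl | hj0
  · exfalso
    rw [pow_zero] at hj
    obtain ⟨f, hf⟩ := Cfsg.Agent.Characters.Linear.exists_hom_of_isIrrCharacter ψ.2
      (by rw [hd, hj, Nat.cast_one])
    rw [noFix_iff] at hnf
    have h3 : ∀ x : X.subgroupOf U, (ψ : U → ℂ) x = 1 := by
      intro x
      rw [hf]
      show ((f (x : U) : ℂˣ) : ℂ) = 1
      rw [hlin f x (Subgroup.mem_subgroupOf.1 x.2), Units.val_one]
    rw [Finset.sum_congr rfl fun x _ => h3 x, Finset.sum_const, Finset.card_univ, nsmul_eq_mul,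
      mul_one, ← Nat.card_eq_fintype_card] at hnf
    exact card_ne_zero' hnf
  · rw [hj]
    exact dvd_pow_self p hj0.ne'

/-- **From the special character.** -/
theorem NoFix.of_special (D : Split G) [Fintype D.U] (X : Subgroup G) (hXU : X ≤ D.U)
    (hXT : ∀ t ∈ D.T, ∀ x ∈ X, t * x * t⁻¹ ∈ X)
    (htr : ∀ u ∈ D.U, u ∉ X → ∀ v ∈ D.U, v ∉ X → ∃ t ∈ D.T, ∃ x ∈ X, t * u * t⁻¹ = v * x)
    (θ : D.U →* ℂˣ) (hθ1 : θ ≠ 1) (hθX : ∀ x : D.U, (x : G) ∈ X → θ x = 1)
    {χ : G → ℂ} (hχ : IsClassFunction G χ)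
    (h1 : classInner (fun u : D.U => χ u) (fun u => (θ u : ℂ)) = 0)
    (h2 : classInner (fun u : D.U => χ u) 1 = 0) : NoFix X χ := by
  classical
  have : Finite X := Finite.of_injective (fun x : X => (⟨x, hXU x.2⟩ : D.U))
    (fun x y h => Subtype.ext (congrArg (fun u : D.U => (u : G)) h))
  have := Fintype.ofFinite X
  rw [noFix_iff]
  -- the function on cosets
  set fh : G → ℂ := fun u => ∑ x : X, χ (u * x) with hfh
  have hfh_mem : ∀ u ∈ X, fh u = fh 1 := by
    intro u hu
    simp only [hfh]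
    refine Fintype.sum_equiv (Equiv.mulLeft (⟨u, hu⟩ : X)) _ _ fun x => ?_
    rw [one_mul]
    rfl
  have hfh_right : ∀ u, ∀ y ∈ X, fh (u * y) = fh u := by
    intro u y hy
    simp only [hfh]
    refine Fintype.sum_equiv (Equiv.mulLeft (⟨y, hy⟩ : X)) _ _ fun x => ?_
    rw [mul_assoc]
    rfl
  have hfh_conj : ∀ u, ∀ t ∈ D.T, fh (t * u * t⁻¹) = fh u := by
    intro u t ht
    simp only [hfh]
    have hmem : ∀ x : X, t⁻¹ * (x : G) * t ∈ X := by
      intro x
      have := hXT t⁻¹ (D.T.inv_mem ht) x x.2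
      rwa [inv_inv] at this
    have hmem' : ∀ x : X, t * (x : G) * t⁻¹ ∈ X := fun x => hXT t ht x x.2
    refine Fintype.sum_equiv
      (⟨fun x => ⟨t⁻¹ * x * t, hmem x⟩, fun x => ⟨t * x * t⁻¹, hmem' x⟩, fun x => Subtype.ext (by
        show t * (t⁻¹ * (x : G) * t) * t⁻¹ = x
        group), fun x => Subtype.ext (by
        show t⁻¹ * (t * (x : G) * t⁻¹) * t = x
        group)⟩ : X ≃ X) _ _ fun x => ?_
    show χ (t * u * t⁻¹ * x) = χ (u * (t⁻¹ * x * t))
    rw [← hχ (u * (t⁻¹ * x * t)) t]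
    congr 1
    group
  obtain ⟨u0, hu0⟩ : ∃ u0 : D.U, (u0 : G) ∉ X := by
    by_contra hcon
    push Not at hcon
    apply hθ1
    ext u
    rw [hθX u (hcon u)]
    rfl
  have hconst : ∀ u : D.U, (u : G) ∉ X → fh u = fh u0 := by
    intro u hu
    obtain ⟨t, ht, x, hx, h⟩ := htr u0 u0.2 hu0 u u.2 hu
    rw [← hfh_conj u0 t ht, h, hfh_right _ x hx]
  have hval : ∀ u : D.U, fh u = fh u0 + (if (u : G) ∈ X then fh 1 - fh u0 else 0) := by
    intro u
    split_ifs with h
    · rw [hfh_mem u h]; ring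
    · rw [hconst u h, add_zero]
  -- the key identity
  have key : ∀ f : D.U → ℂ, (∀ u x : D.U, (x : G) ∈ X → f (u * x) = f u) → f 1 = 1 →
      ∑ u : D.U, χ u * conj (f u) = 0 →
      fh u0 * (∑ u : D.U, conj (f u)) + (fh 1 - fh u0) * Nat.card X = 0 := by
    intro f hf hf1 hsum
    have h3 : ∀ x : X, ∑ u : D.U, χ (u * x) * conj (f u) = 0 := by
      intro x
      rw [← hsum]
      refine Fintype.sum_equiv (Equiv.mulRight (⟨x, hXU x.2⟩ : D.U)) _ _ fun u => ?_
      show χ (u * x) * conj (f u) = χ (u * x) * conj (f (u * ⟨x, hXU x.2⟩))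
      rw [hf u ⟨x, hXU x.2⟩ x.2]
    have h4 : ∑ u : D.U, fh u * conj (f u) = 0 := by
      simp only [hfh, Finset.sum_mul]
      rw [Finset.sum_comm]
      exact Finset.sum_eq_zero fun x _ => h3 x
    have h5 : ∑ u : D.U, fh u * conj (f u) =
        fh u0 * (∑ u : D.U, conj (f u)) + ∑ u : D.U, (if (u : G) ∈ X then fh 1 - fh u0 else 0) := by
      rw [Finset.mul_sum, ← Finset.sum_add_distrib]
      refine Finset.sum_congr rfl fun u _ => ?_
      rw [hval u]
      split_ifs with h
      · have h6 : f u = 1 := by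
          have := hf 1 u h
          rw [one_mul] at this
          rw [this, hf1]
        rw [h6, map_one]; ring
      · ring
    have h6 : ∑ u : D.U, (if (u : G) ∈ X then fh 1 - fh u0 else 0) =
        (fh 1 - fh u0) * Nat.card X := by
      rw [← Finset.sum_filter, Finset.sum_const, nsmul_eq_mul, mul_comm]
      congr 2
      rw [Nat.card_eq_fintype_card, ← Finset.card_univ]
      refine Finset.card_bij' (fun u hu => (⟨u, (Finset.mem_filter.1 hu).2⟩ : X))
        (fun x _ => ⟨x, hXU x.2⟩) ?_ ?_ ?_ ?_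
      · intro u _
        exact Finset.mem_univ _
      · intro x _
        exact Finset.mem_filter.2 ⟨Finset.mem_univ _, x.2⟩
      · intro u _
        rfl
      · intro x _
        rfl
    rw [h5, h6] at h4
    exact h4
  have hU0 : (Nat.card D.U : ℂ)⁻¹ ≠ 0 := inv_ne_zero card_ne_zero'
  have hX0 : (Nat.card X : ℂ) ≠ 0 := card_ne_zero'
  rw [classInner_def] at h1 h2
  have k1 := key (fun u => (θ u : ℂ)) (by
    intro u x hx
    show ((θ (u * x) : ℂˣ) : ℂ) = _
    rw [map_mul, hθX x hx, mul_one]) (by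
    show ((θ 1 : ℂˣ) : ℂ) = 1
    rw [map_one, Units.val_one]) ((mul_eq_zero.1 h1).resolve_left hU0)
  have k2 := key (fun _ => 1) (fun _ _ _ => rfl) rfl ((mul_eq_zero.1 h2).resolve_left hU0)
  have h7 : ∑ u : D.U, conj (θ u : ℂ) = 0 := by
    rw [← map_sum]
    have h3 := classInner_irr_ne (Cfsg.Agent.Characters.Linear.isIrrCharacter_hom θ)
      (isIrr_one (G := D.U)) (by
        intro h
        apply hθ1
        ext u
        have := congrFun h u
        simpa using this)
    rw [classInner_def] at h3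
    simp only [Pi.one_apply, map_one, mul_one] at h3
    rw [(mul_eq_zero.1 h3).resolve_left hU0, map_zero]
  rw [h7, mul_zero, zero_add] at k1
  have k3 : fh 1 = fh u0 := sub_eq_zero.1 ((mul_eq_zero.1 k1).resolve_right hX0)
  rw [k3, sub_self, zero_mul, add_zero, map_one, Finset.sum_const, nsmul_eq_mul, mul_one,
    Finset.card_univ, ← Nat.card_eq_fintype_card] at k2
  have k4 : fh u0 = 0 := (mul_eq_zero.1 k2).resolve_right card_ne_zero'
  rw [k4] at k3
  rw [← k3]
  simp only [hfh, one_mul]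

end Cfsg.Agent.H664.R1
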