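import Cfsg.Agent.H672.SL2Graph
import Cfsg.Agent.S2300
import Cfsg.Agent.H33.IM
import Cfsg.Agent.H671.H5Facts
import Cfsg.Agent.OddCyclic.T1Socle
import Cfsg.Agent.WeakTI.PslTwo
import Cfsg.Agent.SmallSimple.PSLTwoPart
import Cfsg.Agent.Prune
set_option linter.all false
prune_inst 0x7f00000000000000000000000000000000000000000000000000000000000000000000000000000000000000000000000000000000000000000000000000000000000000000000000000000000000000003fffffffffffffffffffffffffffbeffbdffffffff
open scoped Cfsg.Agent.FastGrp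

/-!
# The degrees of `PSL(2,q)` and Itô-Michler for it (helper664)

* `degrees_odd`, `degrees_even` : `q`, `q + 1`, `q - 1` are degrees of `PSL(2,q)` (`q > 5` odd or `q ≥ 4` even);
* `im` : every prime divisor of the order divides a degree.
-/

set_option autoImplicit false

open Cfsg

namespace Cfsg.Agent.H664.R1.PSLTwo

open Cfsg.Agent.Characters.Core Cfsg.Agent.H681.DegBasic

universe u

/-- Transport of degrees. -/
theorem mem_of_equiv {G H : Type*} [Group G] [Group H] (e : G ≃* H) {n : ℕ}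
    (h : n ∈ charDegrees H) : n ∈ charDegrees G :=
  charDegrees_comp e.toMonoidHom e.surjective h

/-- `IM` from the set of degrees. -/
theorem im_of_mem {G : Type*} [Group G] {p n : ℕ} (h : n ∈ charDegrees G) (hp : p ∣ n) :
    H33.IM p G := by
  obtain ⟨χ, hχ⟩ := h
  refine ⟨χ, ?_⟩
  rw [← hχ] at hp
  exact hp

section even

variable {F : Type*} [Field F] [Fintype F] [CharP F 2]

theorem degrees_even_sl (h4 : 4 ≤ Fintype.card F) :
    Fintype.card F ∈ charDegrees (Matrix.SpecialLinearGroup (Fin 2) F) ∧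
      Fintype.card F + 1 ∈ charDegrees (Matrix.SpecialLinearGroup (Fin 2) F) ∧
      Fintype.card F - 1 ∈ charDegrees (Matrix.SpecialLinearGroup (Fin 2) F) := by
  obtain ⟨-, h⟩ := S2300.result (F := F)
  obtain ⟨-, h1, h2, h3⟩ := h h4
  have key : ∀ (z : ℂ) (n : ℕ), z = n → 
      Nat.card {χ : Cfsg.IrrCharacter (Matrix.SpecialLinearGroup (Fin 2) F) //
        (χ : Matrix.SpecialLinearGroup (Fin 2) F → ℂ) 1 = z} ≠ 0 →
      n ∈ charDegrees (Matrix.SpecialLinearGroup (Fin 2) F) := by
    intro z n hz h0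
    have : Nonempty {χ : Cfsg.IrrCharacter (Matrix.SpecialLinearGroup (Fin 2) F) //
        (χ : Matrix.SpecialLinearGroup (Fin 2) F → ℂ) 1 = z} := (Nat.card_ne_zero.1 h0).1
    obtain ⟨χ, hχ⟩ := this
    exact mem_charDegrees.2 ⟨_, χ.2, by rw [hχ, hz]⟩
  refine ⟨key _ _ rfl (by rw [h1]; omega), key _ _ (by push_cast; rfl) (by rw [h2]; omega),
    key _ _ ?_ (by rw [h3]; omega)⟩
  rw [Nat.cast_sub (by omega)]
  simp

theorem degrees_even (h4 : 4 ≤ Fintype.card F) :
    Fintype.card F ∈ charDegrees (Matrix.ProjectiveSpecialLinearGroup (Fin 2) F) ∧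
      Fintype.card F + 1 ∈ charDegrees (Matrix.ProjectiveSpecialLinearGroup (Fin 2) F) ∧
      Fintype.card F - 1 ∈ charDegrees (Matrix.ProjectiveSpecialLinearGroup (Fin 2) F) := by
  obtain ⟨e⟩ := WeakTI.PslTwo.nonempty_equiv (F := F)
  obtain ⟨h1, h2, h3⟩ := degrees_even_sl (F := F) h4
  exact ⟨mem_of_equiv e.symm h1, mem_of_equiv e.symm h2, mem_of_equiv e.symm h3⟩

end even

/-- `PSL(2,5)` has the degrees `3`, `4`, `5`. -/
theorem degrees_five {F : Type*} [Field F] [Fintype F] (h5 : Fintype.card F = 5) :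
    3 ∈ charDegrees (Matrix.ProjectiveSpecialLinearGroup (Fin 2) F) ∧
      4 ∈ charDegrees (Matrix.ProjectiveSpecialLinearGroup (Fin 2) F) ∧
      5 ∈ charDegrees (Matrix.ProjectiveSpecialLinearGroup (Fin 2) F) := by
  have hc1 : Nat.card (Matrix.ProjectiveSpecialLinearGroup (Fin 2) F) = 60 := by
    have h := SmallSimple.PSLTwoPart.card_psl_two_odd (F := F) (by rw [h5]; decide)
    rw [h5] at h
    omega
  obtain ⟨e1⟩ := OddCyclic.T1Socle.equiv_alternating (F' := F) (by rw [h5]; norm_num) hc1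
  let K := GaloisField 2 2
  have : Fintype K := Fintype.ofFinite K
  have hK : Fintype.card K = 4 := by
    rw [← Nat.card_eq_fintype_card, GaloisField.card 2 2 (by norm_num)]
    norm_num
  have hc2 : Nat.card (Matrix.ProjectiveSpecialLinearGroup (Fin 2) K) = 60 := by
    have h := SmallSimple.PSLTwoPart.card_psl_two_even (F := K) (by rw [hK]; decide)
    rw [hK] at h
    omega
  obtain ⟨e2⟩ := OddCyclic.T1Socle.equiv_alternating (F' := K) (by rw [hK]; norm_num) hc2
  obtain ⟨h1, h2, h3⟩ := degrees_even (F := K) (by rw [hK])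
  rw [hK] at h1 h2 h3
  let e := e1.trans e2.symm
  exact ⟨mem_of_equiv e h3, mem_of_equiv e h1, mem_of_equiv e h2⟩

/-- `PSL(2,q)`, `q > 5` odd. -/
theorem degrees_odd {F : Type*} [Field F] [Fintype F] (ho : Odd (Fintype.card F))
    (h5 : 5 < Fintype.card F) :
    Fintype.card F ∈ charDegrees (Matrix.ProjectiveSpecialLinearGroup (Fin 2) F) ∧
      Fintype.card F + 1 ∈ charDegrees (Matrix.ProjectiveSpecialLinearGroup (Fin 2) F) ∧
      Fintype.card F - 1 ∈ charDegrees (Matrix.ProjectiveSpecialLinearGroup (Fin 2) F) := by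
  classical
  refine H672.SL2Graph.psl_degrees ?_ rfl h5
  intro h2
  have h3 := (FiniteField.even_card_iff_char_two.1 h2)
  rw [Nat.odd_iff] at ho
  omega

/-- **Itô-Michler for `PSL(2,F)`.** -/
theorem im_psl {F : Type*} [Field F] [Fintype F] (h4 : 4 ≤ Fintype.card F) {p : ℕ} (hp : p.Prime)
    (hd : p ∣ Nat.card (Matrix.ProjectiveSpecialLinearGroup (Fin 2) F)) :
    H33.IM p (Matrix.ProjectiveSpecialLinearGroup (Fin 2) F) := by
  have hfac : p ∣ Fintype.card F * ((Fintype.card F + 1) * (Fintype.card F - 1)) := by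
    have h1 : (Fintype.card F + 1) * (Fintype.card F - 1) = Fintype.card F ^ 2 - 1 := by
      have := Nat.sq_sub_sq (Fintype.card F) 1
      rw [one_pow] at this
      exact this.symm
    rw [h1]
    rcases Nat.even_or_odd (Fintype.card F) with h | h
    · rwa [SmallSimple.PSLTwoPart.card_psl_two_even h] at hd
    · rw [← SmallSimple.PSLTwoPart.card_psl_two_odd h]
      exact hd.mul_left _
  by_cases h5 : Fintype.card F = 5
  · obtain ⟨h1, h2, h3⟩ := degrees_five h5
    rw [h5] at hfac
    have hfac' : p ∣ 3 * (4 * (2 * 5)) := hfac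
    rcases hp.dvd_mul.1 hfac' with h | h
    · exact im_of_mem h1 h
    rcases hp.dvd_mul.1 h with h | h
    · exact im_of_mem h2 h
    rcases hp.dvd_mul.1 h with h | h
    · exact im_of_mem h2 (h.trans (by norm_num))
    · exact im_of_mem h3 h
  have key : Fintype.card F ∈ charDegrees (Matrix.ProjectiveSpecialLinearGroup (Fin 2) F) ∧
      Fintype.card F + 1 ∈ charDegrees (Matrix.ProjectiveSpecialLinearGroup (Fin 2) F) ∧
      Fintype.card F - 1 ∈ charDegrees (Matrix.ProjectiveSpecialLinearGroup (Fin 2) F) := by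
    rcases Nat.even_or_odd (Fintype.card F) with h | h
    · have h2 : ringChar F = 2 := FiniteField.even_card_iff_char_two.2 (Nat.even_iff.1 h)
      have : CharP F 2 := h2 ▸ ringChar.charP F
      exact degrees_even h4
    · refine degrees_odd h ?_
      rw [Nat.odd_iff] at h
      omega
  obtain ⟨h1, h2, h3⟩ := key
  rcases hp.dvd_mul.1 hfac with h | h
  · exact im_of_mem h1 h
  rcases hp.dvd_mul.1 h with h | h
  · exact im_of_mem h2 h
  · exact im_of_mem h3 h

/-- **Itô-Michler for groups isomorphic to `PSL(2,F)`.** -/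
theorem im {S : Type u} [Group S] {F : Type*} [Field F] [Fintype F] (h4 : 4 ≤ Fintype.card F)
    (e : S ≃* Matrix.ProjectiveSpecialLinearGroup (Fin 2) F) {p : ℕ} (hp : p.Prime)
    (hd : p ∣ Nat.card S) : H33.IM p S := by
  rw [Nat.card_congr e.toEquiv] at hd
  exact (im_psl h4 hp hd).of_equiv e

/-- The same in terms of `IsL2`. -/
theorem im_of_isL2 {S : Type u} [Group S] (h : H671.H5.IsL2 S) {p : ℕ} (hp : p.Prime)
    (hd : p ∣ Nat.card S) : H33.IM p S := by
  obtain ⟨F, _, _, h4, ⟨e⟩⟩ := h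
  exact im h4 e hp hd

end Cfsg.Agent.H664.R1.PSLTwo
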