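import Mathlib
import Cfsg.Prelude.Def_Classical
import Cfsg.Prelude.Def_LieClassical
import Cfsg.Agent.LieRecognition.PSUThreeSylow
import Cfsg.Agent.LieClassical.HermBasic
import Cfsg.Agent.Prune
set_option linter.all false
prune_inst 0x7f00000000000000000000000000000000000000000000000000000000000000000000000000000000000000000000000000000000000000000000000000000000000000000000000000000000000000003fffffffffffffffffffffffffffbeffbdffffffff
open scoped Cfsg.Agent.FastGrp

/-!
# The unitary group of dimension three with the antidiagonal form (helper664)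

* `GUJ σ` : the group of the matrices `g` with `gᵀ J σ(g) = J`, `J` antidiagonal;
* `mk M h` : the element with matrix `M`;
* `coe_ext` : elements are determined by their matrix.
-/

set_option autoImplicit false

namespace Cfsg.Agent.H664.R1.U3

open Matrix Cfsg Cfsg.Agent.LieRecognition.PSUThreeSylow

variable {F : Type*} [Field F] (σ : F →+* F)

/-- The unitary group of the antidiagonal form. -/
def GUJ : Subgroup (GL (Fin 3) F) where
  carrier := {g | (g : Matrix (Fin 3) (Fin 3) F)ᵀ * Jm F * (g : Matrix (Fin 3) (Fin 3) F).map σ = Jm F}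
  mul_mem' := by
    intro g h hg hh
    simp only [Set.mem_ofPred_eq] at *
    rw [Units.val_mul, Matrix.transpose_mul, Matrix.map_mul]
    calc _ = (h : Matrix (Fin 3) (Fin 3) F)ᵀ * ((g : Matrix (Fin 3) (Fin 3) F)ᵀ * Jm F *
          (g : Matrix (Fin 3) (Fin 3) F).map σ) * (h : Matrix (Fin 3) (Fin 3) F).map σ := by
            simp only [Matrix.mul_assoc]
      _ = _ := by rw [hg, hh]
  one_mem' := by
    change ((1 : GL (Fin 3) F) : Matrix (Fin 3) (Fin 3) F)ᵀ * Jm F *
      ((1 : GL (Fin 3) F) : Matrix (Fin 3) (Fin 3) F).map σ = Jm F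
    rw [Units.val_one, Matrix.map_one σ (map_zero σ) (map_one σ), Matrix.mul_one,
      Matrix.transpose_one, Matrix.one_mul]
  inv_mem' := by
    intro g hg
    simp only [Set.mem_ofPred_eq] at *
    have h1 : (g : Matrix (Fin 3) (Fin 3) F) * ((g⁻¹ : GL (Fin 3) F) :
        Matrix (Fin 3) (Fin 3) F) = 1 := by
      rw [← Units.val_mul, mul_inv_cancel, Units.val_one]
    generalize ((g⁻¹ : GL (Fin 3) F) : Matrix (Fin 3) (Fin 3) F) = B at *
    calc Bᵀ * Jm F * B.map σ = Bᵀ * ((g : Matrix (Fin 3) (Fin 3) F)ᵀ * Jm F *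
          (g : Matrix (Fin 3) (Fin 3) F).map σ) * B.map σ := by rw [hg]
      _ = ((g : Matrix (Fin 3) (Fin 3) F) * B)ᵀ * Jm F * ((g : Matrix (Fin 3) (Fin 3) F) * B).map σ := by
            rw [Matrix.transpose_mul, Matrix.map_mul]
            simp only [Matrix.mul_assoc]
      _ = Jm F := by
            rw [h1, Matrix.transpose_one, Matrix.one_mul, Matrix.map_one σ (map_zero σ) (map_one σ),
              Matrix.mul_one]

theorem mem_GUJ {g : GL (Fin 3) F} :
    g ∈ GUJ σ ↔ (g : Matrix (Fin 3) (Fin 3) F)ᵀ * Jm F * (g : Matrix (Fin 3) (Fin 3) F).map σ = Jm F :=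
  Iff.rfl

/-- The matrix of an element. -/
def mat (g : GUJ σ) : Matrix (Fin 3) (Fin 3) F := ((g : GL (Fin 3) F) : Matrix (Fin 3) (Fin 3) F)

variable {σ}

theorem mat_mul (g h : GUJ σ) : mat σ (g * h) = mat σ g * mat σ h := rfl

theorem mat_one : mat σ (1 : GUJ σ) = 1 := rfl

theorem mat_inj {g h : GUJ σ} (H : mat σ g = mat σ h) : g = h :=
  Subtype.ext (Units.ext H)

theorem mat_spec (g : GUJ σ) : (mat σ g)ᵀ * Jm F * (mat σ g).map σ = Jm F := g.2

theorem det_Jm : (Jm F).det = -1 := by
  rw [Jm, Matrix.det_fin_three]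
  simp

/-- The determinant has norm one. -/
theorem det_norm {M : Matrix (Fin 3) (Fin 3) F} (h : Mᵀ * Jm F * M.map σ = Jm F) :
    M.det * σ M.det = 1 := by
  have h1 := congrArg Matrix.det h
  rw [Matrix.det_mul, Matrix.det_mul, Matrix.det_transpose, det_Jm] at h1
  have h2 : (M.map σ).det = σ M.det := by
    rw [RingHom.map_det]
    rfl
  rw [h2] at h1
  linear_combination -h1

/-- The element with a given matrix. -/
def mk (M : Matrix (Fin 3) (Fin 3) F) (h : Mᵀ * Jm F * M.map σ = Jm F) : GUJ σ :=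
  ⟨Matrix.GeneralLinearGroup.mkOfDetNeZero M (by
    intro h0
    have h1 := det_norm h
    rw [h0, zero_mul] at h1
    exact zero_ne_one h1), h⟩

@[simp] theorem mat_mk (M : Matrix (Fin 3) (Fin 3) F) (h : Mᵀ * Jm F * M.map σ = Jm F) :
    mat σ (mk M h) = M := rfl

end Cfsg.Agent.H664.R1.U3
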